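import Mathlib

/-! A group of order eight generated by two non-commuting involutions is dihedral. -/

set_option autoImplicit false
set_option linter.style.haveILetI false

namespace Cfsg.Lib.Classical.TwoGroups

open Subgroup

theorem dihedral_eight {G : Type*} [Group G] [Finite G] (hG : Nat.card G = 8) (u v : G) (hu : u * u = 1)
    (hv : v * v = 1) (huv : u * v ≠ v * u) : Nonempty (G ≃* DihedralGroup 4) := by
  classical
  obtain ⟨r, hr⟩ : ∃ r, r = u * v := ⟨_, rfl⟩
  have hui : u⁻¹ = u := inv_eq_of_mul_eq_one_right hu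
  have hvi : v⁻¹ = v := inv_eq_of_mul_eq_one_right hv
  have hur : u * r * u = r⁻¹ := by
    rw [hr, _root_.mul_inv_rev, hui, hvi, ← mul_assoc u u v, hu, one_mul]
  have hord : orderOf r = 4 := by
    have hd : orderOf r ∣ 2 ^ 3 := by
      rw [show (2 : ℕ) ^ 3 = 8 from rfl, ← hG]; exact orderOf_dvd_natCard r
    obtain ⟨k, hk, e⟩ := (Nat.dvd_prime_pow Nat.prime_two).1 hd
    interval_cases k
    · exfalso
      rw [pow_zero, orderOf_eq_one_iff, hr] at e
      exact huv (by rw [e, eq_inv_of_mul_eq_one_right e, hui, hu])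
    · exfalso
      rw [pow_one] at e
      have h2 : r ^ 2 = 1 := by rw [← e]; exact pow_orderOf_eq_one r
      refine huv ?_
      have : r = r⁻¹ := eq_inv_of_mul_eq_one_left (by rw [← pow_two]; exact h2)
      rw [hr, _root_.mul_inv_rev, hui, hvi] at this
      exact this
    · simpa using e
    · exfalso
      have htop : zpowers r = ⊤ := Subgroup.eq_top_of_card_eq _ (by rw [Nat.card_zpowers, e, hG]; rfl)
      obtain ⟨i, hi⟩ := mem_zpowers_iff.1 (htop.ge (mem_top u))
      obtain ⟨j, hj⟩ := mem_zpowers_iff.1 (htop.ge (mem_top v))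
      exact huv (by rw [← hi, ← hj, ← zpow_add, ← zpow_add, add_comm])
  have hu_not : u ∉ zpowers r := fun h => by
    obtain ⟨i, hi⟩ := mem_zpowers_iff.1 h
    have : u * r = r * u := by rw [← hi, ← zpow_add_one, ← zpow_one_add, add_comm]
    refine huv ?_
    have h1 : r⁻¹ = r := by rw [← hur, this, mul_assoc, hu, mul_one]
    rw [hr, _root_.mul_inv_rev, hui, hvi] at h1
    exact h1.symm
  let P : ZMod 4 → G := fun i => r ^ i.val
  have hP : ∀ i j : ZMod 4, P i * P j = P (i + j) := fun i j => by
    rw [← pow_add, pow_eq_pow_iff_modEq, hord, ZMod.val_add]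
    exact (Nat.mod_modEq _ _).symm
  have hPu : ∀ i : ZMod 4, P i * u = u * P (-i) := fun i => by
    have h1 : u * r ^ i.val * u = (r ^ i.val)⁻¹ := by
      rw [← inv_pow, ← hur]
      conv_rhs => rw [show u * r * u = u * r * u⁻¹ by rw [hui], conj_pow, hui]
    have h2 : P (-i) = (P i)⁻¹ := eq_inv_of_mul_eq_one_left (by rw [hP, neg_add_cancel]; simp [P])
    rw [h2]
    show r ^ i.val * u = u * (r ^ i.val)⁻¹
    rw [← h1, ← mul_assoc, ← mul_assoc, hu, one_mul]
  let f : DihedralGroup 4 →* G :=
    { toFun := fun x => match x with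
        | .r i => P i
        | .sr i => u * P i
      map_one' := by show P 0 = 1; simp [P]
      map_mul' := by
        rintro (i | i) (j | j)
        · simp [hP]
        · simp only [DihedralGroup.r_mul_sr]
          rw [← mul_assoc (P i), hPu, mul_assoc, hP, neg_add_eq_sub]
        · simp only [DihedralGroup.sr_mul_r]
          rw [mul_assoc, hP]
        · simp only [DihedralGroup.sr_mul_sr]
          rw [mul_assoc u (P i), ← mul_assoc (P i), hPu, mul_assoc u, hP, ← mul_assoc, hu, one_mul, neg_add_eq_sub] }
  have hzp : ∀ i : ZMod 4, P i ∈ zpowers r := fun i => Subgroup.pow_mem _ (mem_zpowers r) _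
  have hinj : Function.Injective f := by
    have hPinj : Function.Injective P := fun i j h => ZMod.val_injective 4
      (pow_injOn_Iio_orderOf (x := r) (by simpa [hord] using ZMod.val_lt i) (by simpa [hord] using ZMod.val_lt j) h)
    rintro (i | i) (j | j) h
    · exact congrArg DihedralGroup.r (hPinj h)
    · refine absurd ?_ hu_not
      change P i = u * P j at h
      rw [eq_mul_inv_of_mul_eq h.symm]
      exact mul_mem (hzp i) (inv_mem (hzp j))
    · refine absurd ?_ hu_not
      change u * P i = P j at h
      rw [eq_mul_inv_of_mul_eq h]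
      exact mul_mem (hzp j) (inv_mem (hzp i))
    · exact congrArg DihedralGroup.sr (hPinj (mul_left_cancel h))
  exact ⟨(MulEquiv.ofBijective f ((Nat.bijective_iff_injective_and_card f).2
    ⟨hinj, by rw [hG, DihedralGroup.nat_card]⟩)).symm⟩

end Cfsg.Lib.Classical.TwoGroups
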