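import Mathlib

/-! Small terms of the upper central series of a finite 2-group. -/

set_option autoImplicit false

namespace Cfsg.Lib.Classical.TwoGroups

open Subgroup
open scoped commutatorElement

variable {T : Type*} [Group T] [Finite T]

theorem series_lt (hT : IsPGroup 2 T) {i : ℕ} (h : Subgroup.upperCentralSeries T i ≠ ⊤) :
    Subgroup.upperCentralSeries T i < Subgroup.upperCentralSeries T (i + 1) := by
  refine lt_of_le_of_ne (Subgroup.upperCentralSeries_mono T (Nat.le_succ i)) fun e => h ?_
  haveI : Group.IsNilpotent T := hT.isNilpotent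
  have hc : ∀ j, i ≤ j → Subgroup.upperCentralSeries T j = Subgroup.upperCentralSeries T i := by
    intro j hj
    induction j, hj using Nat.le_induction with
    | base => rfl
    | succ j _ ih =>
      ext x
      rw [Subgroup.mem_upperCentralSeries_succ_iff, ih]
      exact (Subgroup.mem_upperCentralSeries_succ_iff (G := T) (n := i) (x := x)).symm.trans (by rw [← e])
  obtain ⟨n, hn⟩ := Group.IsNilpotent.nilpotent (G := T)
  have := hc (max i n) (le_max_left _ _)
  rw [← this, eq_top_iff, ← hn]
  exact Subgroup.upperCentralSeries_mono T (le_max_right _ _)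

theorem series_card (hT : IsPGroup 2 T) (ha : 32 ≤ Nat.card T) (hb : Nat.card ↥(Subgroup.upperCentralSeries T 4) = 16)
    {i : ℕ} (hi : i ≤ 4) : Nat.card ↥(Subgroup.upperCentralSeries T i) = 2 ^ i := by
  have h4 : Subgroup.upperCentralSeries T 4 ≠ ⊤ := fun e => by rw [e, Subgroup.card_top] at hb; omega
  have key : ∀ j, ∃ a, Nat.card ↥(Subgroup.upperCentralSeries T j) = 2 ^ a :=
    fun j => IsPGroup.iff_card.1 (hT.to_subgroup _)
  choose a ha' using key
  have hlt : ∀ j < 4, a j < a (j + 1) := fun j hj => by
    have hne : Subgroup.upperCentralSeries T j ≠ ⊤ := fun e => h4 (top_le_iff.1 (e ▸ Subgroup.upperCentralSeries_mono T (by omega)))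
    have hl := series_lt hT hne
    have h1 : Nat.card ↥(Subgroup.upperCentralSeries T j) < Nat.card ↥(Subgroup.upperCentralSeries T (j + 1)) := by
      refine lt_of_le_of_ne (Subgroup.card_le_of_le hl.le) fun e => hl.ne ?_
      exact Subgroup.eq_of_le_of_card_ge hl.le e.ge
    rw [ha', ha'] at h1
    exact (Nat.pow_lt_pow_iff_right (by norm_num)).1 h1
  have h0 : a 0 = 0 := by
    have := ha' 0
    rw [Subgroup.upperCentralSeries_zero, Subgroup.card_bot] at this
    rcases Nat.pow_eq_one.1 this.symm with h | h
    · omega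
    · exact h
  have h16 : a 4 = 4 := by
    have := ha' 4
    rw [hb, show 16 = 2 ^ 4 from rfl] at this
    exact (Nat.pow_right_injective le_rfl this).symm
  have b0 := hlt 0 (by norm_num); have b1 := hlt 1 (by norm_num)
  have b2 := hlt 2 (by norm_num); have b3 := hlt 3 (by norm_num)
  norm_num at b0 b1 b2 b3
  rw [ha']
  congr 1
  interval_cases i <;> omega

/-- A normal subgroup meets the series one step at a time. -/
theorem exists_mem_succ (hT : IsPGroup 2 T) (N : Subgroup T) [N.Normal] {i : ℕ}
    (h : ¬ N ≤ Subgroup.upperCentralSeries T i) :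
    ∃ x ∈ N, x ∈ Subgroup.upperCentralSeries T (i + 1) ∧ x ∉ Subgroup.upperCentralSeries T i := by
  haveI : Group.IsNilpotent T := hT.isNilpotent
  by_contra hc
  push Not at hc
  obtain ⟨n, hn⟩ := Group.IsNilpotent.nilpotent (G := T)
  have key : ∀ j, ∀ x ∈ N, x ∈ Subgroup.upperCentralSeries T j → x ∈ Subgroup.upperCentralSeries T i := by
    intro j
    induction j with
    | zero => intro x _ hx; exact Subgroup.upperCentralSeries_mono T (Nat.zero_le i) hx
    | succ j ih =>
      intro x hxN hx
      refine hc x hxN (Subgroup.mem_upperCentralSeries_succ_iff.2 fun y => ih _ ?_ (Subgroup.mem_upperCentralSeries_succ_iff.1 hx y))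
      have := N.mul_mem hxN (Normal.conj_mem inferInstance _ (N.inv_mem hxN) y)
      simpa [commutatorElement_def, mul_assoc] using this
  exact h fun x hx => key n x hx (hn ▸ mem_top x)

/-- A normal subgroup of order `2^k`, `k ≤ 4`, is a term of the series. -/
theorem eq_series (hT : IsPGroup 2 T) (ha : 32 ≤ Nat.card T) (hb : Nat.card ↥(Subgroup.upperCentralSeries T 4) = 16)
    (N : Subgroup T) [N.Normal] {k : ℕ} (hk : Nat.card N = 2 ^ k) (hk4 : k ≤ 4) : N = Subgroup.upperCentralSeries T k := by
  have key : ∀ i ≤ k, 2 ^ i ≤ Nat.card ↥(N ⊓ Subgroup.upperCentralSeries T i) := by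
    intro i
    induction i with
    | zero => intro _; simpa using Nat.card_pos (α := ↥(N ⊓ Subgroup.upperCentralSeries T 0))
    | succ i ih =>
      intro hi
      have hi' := ih (by omega)
      have hnot : ¬ N ≤ Subgroup.upperCentralSeries T i := fun hle => by
        have h1 := Subgroup.card_le_of_le hle
        rw [hk, series_card hT ha hb (by omega)] at h1
        exact absurd ((Nat.pow_le_pow_iff_right (by norm_num)).1 h1) (by omega)
      obtain ⟨x, hxN, hx1, hx⟩ := exists_mem_succ hT N hnot
      have hle : N ⊓ Subgroup.upperCentralSeries T i ≤ N ⊓ Subgroup.upperCentralSeries T (i + 1) :=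
        inf_le_inf_left _ (Subgroup.upperCentralSeries_mono T (Nat.le_succ i))
      have hdvd := Subgroup.card_dvd_of_le hle
      have hne : Nat.card ↥(N ⊓ Subgroup.upperCentralSeries T i) ≠ Nat.card ↥(N ⊓ Subgroup.upperCentralSeries T (i + 1)) := fun e =>
        hx ((Subgroup.eq_of_le_of_card_ge hle e.ge).ge ⟨hxN, hx1⟩ : x ∈ N ⊓ Subgroup.upperCentralSeries T i).2
      obtain ⟨c, hc⟩ := hdvd
      have hpos : 0 < Nat.card ↥(N ⊓ Subgroup.upperCentralSeries T (i + 1)) := Nat.card_pos
      have hc2 : 2 ≤ c := by
        rcases c with _ | _ | c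
        · rw [Nat.mul_zero] at hc; omega
        · simp at hc; exact absurd hc.symm hne
        · omega
      rw [pow_succ, hc]
      exact Nat.mul_le_mul hi' hc2
  have hk' := key k le_rfl
  have hle : N ⊓ Subgroup.upperCentralSeries T k = N := Subgroup.eq_of_le_of_card_ge inf_le_left (hk ▸ hk')
  exact Subgroup.eq_of_le_of_card_ge (inf_eq_left.1 hle) (le_of_eq (by rw [series_card hT ha hb hk4, hk]))

end Cfsg.Lib.Classical.TwoGroups
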