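import Mathlib

/-! Squares and commutators modulo a hyperplane of a small central Frattini subgroup. -/

set_option autoImplicit false
set_option linter.style.haveILetI false

namespace Cfsg.Lib.Classical.TwoGroups

open Subgroup
open scoped commutatorElement

theorem two_mul_index {H : Type*} [Group H] [Finite H] {A B : Subgroup H} (h : A < B) :
    2 * B.index ≤ A.index := by
  rw [← Subgroup.relIndex_mul_index h.le]
  refine Nat.mul_le_mul_right _ ?_
  have h1 : A.relIndex B ≠ 1 := fun e => h.not_ge (Subgroup.relIndex_eq_one.1 e)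
  have h0 : A.relIndex B ≠ 0 := Subgroup.index_ne_zero_of_finite
  omega

/-- In a group of exponent two a non-trivial element avoids a subgroup of index two. -/
theorem exists_avoid {V : Type*} [Group V] [Finite V] (hV : ∀ x : V, x ^ 2 = 1) {a : V} (ha : a ≠ 1) :
    ∃ S : Subgroup V, S.index ≤ 2 ∧ a ∉ S := by
  classical
  have hc : ∀ x y : V, x * y = y * x := fun x y => by
    have hinv : ∀ z : V, z⁻¹ = z := fun z => inv_eq_of_mul_eq_one_right (by rw [← pow_two]; exact hV z)
    calc x * y = (x * y)⁻¹ := (hinv _).symm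
      _ = y * x := by rw [_root_.mul_inv_rev, hinv, hinv]
  obtain ⟨S, hS⟩ := Set.Finite.exists_maximal (Set.toFinite {S : Subgroup V | a ∉ S}) ⟨⊥, fun h => ha (mem_bot.1 h)⟩
  refine ⟨S, ?_, hS.1⟩
  have key : ∀ y, y ∉ S → a * y ∈ S := by
    intro y hy
    let S' : Subgroup V :=
      { carrier := {v | v ∈ S ∨ v * y ∈ S}
        one_mem' := Or.inl (one_mem S)
        mul_mem' := by
          rintro u v (hu | hu) (hv | hv)
          · exact Or.inl (mul_mem hu hv)
          · exact Or.inr (by rw [mul_assoc]; exact mul_mem hu hv)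
          · exact Or.inr (by rw [mul_assoc, hc v y, ← mul_assoc]; exact mul_mem hu hv)
          · refine Or.inl ?_
            have : u * v = (u * y) * (v * y) := by
              rw [hc v y, ← mul_assoc, mul_assoc u y y, ← pow_two, hV, mul_one]
            rw [this]; exact mul_mem hu hv
        inv_mem' := by
          intro v hv
          have : v⁻¹ = v := inv_eq_of_mul_eq_one_right (by rw [← pow_two]; exact hV v)
          rwa [this] }
    have hlt : S < S' := lt_of_le_of_ne (fun v hv => Or.inl hv) fun e => hy (e ▸ (Or.inr (by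
      rw [← pow_two, hV]; exact one_mem S) : y ∈ S'))
    have haS : a ∈ S' := by
      by_contra h
      exact hlt.not_ge (hS.2 h hlt.le)
    rcases haS with h | h
    · exact absurd h hS.1
    · exact h
  refine le_of_eq (Subgroup.index_eq_two_iff.2 ⟨a, fun b => ?_⟩)
  rw [hc b a]
  by_cases hb : b ∈ S
  · exact Or.inr ⟨hb, fun h => hS.1 (by simpa using mul_mem h (inv_mem hb))⟩
  · exact Or.inl ⟨key b hb, hb⟩

variable {W : Type*} [Group W] [Finite W]

/-- With the hypothesis on small-index subgroups there is no large subgroup whose squares lie in `M`. -/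
theorem no_singular (hd : ∀ U : Subgroup W, U.index ≤ 16 → frattini W ≤ U) (M : Subgroup W) [M.Normal]
    (hMF : ¬ frattini W ≤ M) (K : Subgroup W) (hFK : frattini W ≤ K) (hK : K.index ≤ 8)
    (hsq : ∀ x ∈ K, x ^ 2 ∈ M) : False := by
  obtain ⟨φ, hφ, hφM⟩ := SetLike.not_le_iff_exists.1 hMF
  let π := (QuotientGroup.mk' M).comp K.subtype
  have hexp : ∀ v : π.range, v ^ 2 = 1 := by
    rintro ⟨_, x, rfl⟩
    refine Subtype.ext ?_
    show (QuotientGroup.mk' M) (x : W) ^ 2 = 1
    rw [← map_pow, QuotientGroup.mk'_apply, QuotientGroup.eq_one_iff]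
    exact hsq x x.2
  obtain ⟨S, hS, haS⟩ := exists_avoid hexp (a := ⟨π ⟨φ, hFK hφ⟩, _, rfl⟩) (fun e => hφM (by
    have := congrArg Subtype.val e
    exact (QuotientGroup.eq_one_iff φ).1 this))
  let U : Subgroup W := (S.comap π.rangeRestrict).map K.subtype
  have hU : U.index ≤ 16 := by
    rw [Subgroup.index_map_subtype, Subgroup.index_comap_of_surjective _ π.rangeRestrict_surjective]
    exact (Nat.mul_le_mul hS hK).trans (le_of_eq rfl)
  obtain ⟨⟨x, hx⟩, hxS, e⟩ := hd U hU hφ
  change x = φ at e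
  subst e
  exact haS hxS

/-- The squaring map of a subgroup that is abelian modulo `M`. -/
theorem no_isotropic (hd : ∀ U : Subgroup W, U.index ≤ 16 → frattini W ≤ U)
    (hsq : ∀ x : W, x ^ 2 ∈ frattini W) (M : Subgroup W) [M.Normal]
    (hMF : ¬ frattini W ≤ M) (h2 : ∀ a ∈ frattini W, ∀ b ∈ frattini W, a ∉ M → b ∉ M → a * b ∈ M)
    (U : Subgroup W) (hFU : frattini W ≤ U) (hU : U.index ≤ 4) (hc : ∀ x ∈ U, ∀ y ∈ U, ⁅x, y⁆ ∈ M)
    (hF : ∀ x ∈ frattini W, x ^ 2 ∈ M) : False := by
  have hmul : ∀ x ∈ U, ∀ y ∈ U, (QuotientGroup.mk' M) ((x * y) ^ 2) =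
      QuotientGroup.mk' M (x ^ 2) * QuotientGroup.mk' M (y ^ 2) := by
    intro x hx y hy
    have hcm : Commute (QuotientGroup.mk' M x) (QuotientGroup.mk' M y) := by
      rw [← commutatorElement_eq_one_iff_commute, ← map_commutatorElement, QuotientGroup.mk'_apply,
        QuotientGroup.eq_one_iff]
      exact hc x hx y hy
    rw [map_pow, map_mul, hcm.mul_pow, map_pow, map_pow]
  let K : Subgroup W :=
    { carrier := {x | x ∈ U ∧ x ^ 2 ∈ M}
      one_mem' := ⟨one_mem U, by rw [one_pow]; exact one_mem M⟩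
      mul_mem' := fun {x y} hx hy => ⟨mul_mem hx.1 hy.1, by
        rw [← QuotientGroup.eq_one_iff, ← QuotientGroup.mk'_apply, hmul x hx.1 y hy.1,
          show QuotientGroup.mk' M (x ^ 2) = 1 from (QuotientGroup.eq_one_iff _).2 hx.2,
          show QuotientGroup.mk' M (y ^ 2) = 1 from (QuotientGroup.eq_one_iff _).2 hy.2, one_mul]⟩
      inv_mem' := fun {x} hx => ⟨inv_mem hx.1, by rw [inv_pow]; exact inv_mem hx.2⟩ }
  refine no_singular hd M hMF K (fun x hx => ⟨hFU hx, hF x hx⟩) ?_ (fun x hx => hx.2)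
  have hKU : K ≤ U := fun x hx => hx.1
  have hrel : K.relIndex U ≤ 2 := by
    by_cases h : ∀ x ∈ U, x ^ 2 ∈ M
    · have hle : U ≤ K := fun x hx => ⟨hx, h x hx⟩
      rw [Subgroup.relIndex_eq_one.2 hle]; omega
    push Not at h
    obtain ⟨a, haU, haM⟩ := h
    refine le_of_eq (Subgroup.index_eq_two_iff.2 ⟨⟨a, haU⟩, fun b => ?_⟩)
    have hiff : (b : W) * a ∈ K ↔ (b : W) ^ 2 ∉ M := by
      refine ⟨fun h hb => haM ?_, fun hb => ⟨mul_mem b.2 haU, ?_⟩⟩
      · exact (K.mul_mem_cancel_left (show (b : W) ∈ K from ⟨b.2, hb⟩)).1 h |>.2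
      · have h3 := h2 _ (hsq b) _ (hsq a) hb haM
        rw [← QuotientGroup.eq_one_iff, ← QuotientGroup.mk'_apply, hmul _ b.2 a haU, ← map_mul,
          QuotientGroup.mk'_apply, QuotientGroup.eq_one_iff]
        exact h3
    by_cases hb : (b : W) ^ 2 ∈ M
    · exact Or.inr ⟨⟨b.2, hb⟩, fun h => (hiff.1 h) hb⟩
    · exact Or.inl ⟨hiff.2 hb, fun h => hb h.2⟩
  calc K.index = K.relIndex U * U.index := (Subgroup.relIndex_mul_index hKU).symm
    _ ≤ 2 * 4 := Nat.mul_le_mul hrel hU

/-- A group whose commutators take at most two values, with a centre of index at most sixteen. -/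
theorem exists_abelian {H : Type*} [Group H] [Finite H]
    (h2 : ∀ a b : H, a ∈ commutator H → b ∈ commutator H → a ≠ 1 → b ≠ 1 → a = b)
    (hcen : commutator H ≤ center H) (hZ : (center H).index ≤ 16) :
    ∃ A : Subgroup H, center H ≤ A ∧ A.index ≤ 4 ∧ ∀ x ∈ A, ∀ y ∈ A, x * y = y * x := by
  classical
  have hmem : ∀ a b : H, ⁅a, b⁆ ∈ commutator H := fun a b =>
    Subgroup.commutator_mem_commutator (mem_top a) (mem_top b)
  have hhom : ∀ w a b : H, ⁅w, a * b⁆ = ⁅w, a⁆ * ⁅w, b⁆ := fun w a b => by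
    have e : ⁅w, a * b⁆ = ⁅w, a⁆ * (a * ⁅w, b⁆ * a⁻¹) := by simp only [commutatorElement_def]; group
    rw [e, (mem_center_iff.1 (hcen (hmem w b)) a), mul_inv_cancel_right]
  have hsq : ∀ a : H, a ∈ commutator H → a ≠ 1 → a * a = 1 := fun a ha ha1 => by
    have e := h2 a a⁻¹ ha (inv_mem ha) ha1 (inv_ne_one.2 ha1)
    conv_lhs => arg 2; rw [e]
    exact mul_inv_cancel a
  have hhalf : ∀ w : H, (centralizer ({w} : Set H)).index ≤ 2 := fun w => by
    by_cases h : ∀ y : H, ⁅w, y⁆ = 1
    · rw [show centralizer ({w} : Set H) = ⊤ from eq_top_iff.2 fun y _ => mem_centralizer_singleton_iff.2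
        (commutatorElement_eq_one_iff_mul_comm.1 (h y)).symm, Subgroup.index_top]
      omega
    push Not at h
    obtain ⟨a, ha⟩ := h
    refine le_of_eq (Subgroup.index_eq_two_iff.2 ⟨a, fun b => ?_⟩)
    have hi : ∀ y, y ∈ centralizer ({w} : Set H) ↔ ⁅w, y⁆ = 1 := fun y => by
      rw [mem_centralizer_singleton_iff, commutatorElement_eq_one_iff_mul_comm, eq_comm]
    rw [hi, hi, hhom]
    by_cases hb : ⁅w, b⁆ = 1
    · exact Or.inr ⟨hb, by rw [hb, one_mul]; exact ha⟩
    · refine Or.inl ⟨?_, hb⟩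
      rw [h2 _ _ (hmem w b) (hmem w a) hb ha]
      exact hsq _ (hmem w a) ha
  have habel : ∀ (A : Subgroup H) (w : H), (∀ x ∈ A, ∀ y ∈ A, x * y = y * x) → (∀ x ∈ A, x * w = w * x) →
      ∀ x ∈ A ⊔ zpowers w, ∀ y ∈ A ⊔ zpowers w, x * y = y * x := by
    intro A w hA hw
    have h1 : A ⊔ zpowers w ≤ centralizer (A : Set H) :=
      sup_le (fun x hx => mem_centralizer_iff.2 fun y hy => hA y hy x hx)
        (zpowers_le.2 (mem_centralizer_iff.2 fun y hy => hw y hy))
    have h2 : A ⊔ zpowers w ≤ centralizer ((A ⊔ zpowers w : Subgroup H) : Set H) := by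
      refine sup_le ?_ (zpowers_le.2 ?_)
      · intro x hx
        exact mem_centralizer_iff.2 fun y hy => (mem_centralizer_iff.1 (h1 hy) x hx).symm
      · refine mem_centralizer_iff.2 fun y hy => ?_
        have h3 : A ⊔ zpowers w ≤ centralizer ({w} : Set H) :=
          sup_le (fun x hx => mem_centralizer_singleton_iff.2 (hw x hx))
            (zpowers_le.2 (mem_centralizer_singleton_iff.2 rfl))
        exact mem_centralizer_singleton_iff.1 (h3 hy)
    exact fun x hx y hy => mem_centralizer_iff.1 (h2 hy) x hx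
  have hZab : ∀ x ∈ center H, ∀ y ∈ center H, x * y = y * x := fun x hx y _ => (mem_center_iff.1 hx y).symm
  by_cases hZ4 : (center H).index ≤ 4
  · exact ⟨center H, le_rfl, hZ4, hZab⟩
  obtain ⟨w₁, hw₁⟩ : ∃ w, w ∉ center H := by
    by_contra h
    push Not at h
    exact hZ4 (by rw [(eq_top_iff.2 fun x _ => h x : center H = ⊤), Subgroup.index_top]; omega)
  set A₁ := center H ⊔ zpowers w₁
  have hA₁ := habel (center H) w₁ hZab fun x hx => (mem_center_iff.1 hx w₁).symm
  have hlt₁ : center H < A₁ := lt_of_le_of_ne le_sup_left fun e => hw₁ (e ▸ le_sup_right (a := center H) (mem_zpowers w₁))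
  have hi₁ := two_mul_index hlt₁
  by_cases hA4 : A₁.index ≤ 4
  · exact ⟨A₁, le_sup_left, hA4, hA₁⟩
  have hle : A₁ ≤ centralizer ({w₁} : Set H) := fun x hx =>
    mem_centralizer_singleton_iff.2 (hA₁ x hx w₁ (le_sup_right (a := center H) (mem_zpowers w₁)))
  have hlt : A₁ < centralizer ({w₁} : Set H) := lt_of_le_of_ne hle fun e => hA4 (by
    rw [e]; exact (hhalf w₁).trans (by norm_num))
  obtain ⟨w₂, hw₂, hw₂'⟩ := SetLike.exists_of_lt hlt
  set A₂ := A₁ ⊔ zpowers w₂
  have hlt₂ : A₁ < A₂ := lt_of_le_of_ne le_sup_left fun e => hw₂' (e ▸ le_sup_right (a := A₁) (mem_zpowers w₂))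
  have hi₂ := two_mul_index hlt₂
  refine ⟨A₂, le_sup_left.trans le_sup_left, by omega, habel A₁ w₂ hA₁ fun x hx => ?_⟩
  have h3 : A₁ ≤ centralizer ({w₂} : Set H) := sup_le (fun y hy => mem_centralizer_singleton_iff.2 (mem_center_iff.1 hy w₂).symm)
    (zpowers_le.2 (mem_centralizer_singleton_iff.2 (mem_centralizer_singleton_iff.1 hw₂).symm))
  exact mem_centralizer_singleton_iff.1 (h3 hx)

end Cfsg.Lib.Classical.TwoGroups
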