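import Mathlib
import Cfsg.Agent.Classical.TwoGroups.Series
import Cfsg.Agent.Classical.TwoGroups.Singular
import Cfsg.Agent.PGroups.Basic

/-! A 2-group of order at least 2^14 with fourth centre of order 16 and small Frattini subgroup of the centraliser of the
third centre: the bound on the order. -/

set_option autoImplicit false
set_option linter.style.haveILetI false

namespace Cfsg.Lib.Classical.TwoGroups

open Subgroup
open scoped commutatorElement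

/-- The hypotheses. -/
structure Setup {T : Type*} [Group T] [Finite T] (W : Subgroup T) : Prop where
  hT : IsPGroup 2 T
  ha : 2 ^ 14 ≤ Nat.card T
  hb : Nat.card ↥(Subgroup.upperCentralSeries T 4) = 16
  hW : W = Subgroup.centralizer ((Subgroup.upperCentralSeries T 3 : Subgroup T) : Set T)
  hc : Nat.card ↥(frattini ↥W) ≤ 8
  hd : ∀ U : Subgroup ↥W, U.index ≤ 16 → frattini ↥W ≤ U

variable {T : Type*} [Group T] [Finite T] {W : Subgroup T}

local notation "Z" => Subgroup.upperCentralSeries T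

/-- The Frattini subgroup of `W` inside `T`. -/
abbrev phi (W : Subgroup T) : Subgroup T := (frattini ↥W).map W.subtype

namespace Setup

variable (S : Setup W)
include S

theorem ha32 : 32 ≤ Nat.card T := le_trans (by norm_num) S.ha

theorem card_Z {i : ℕ} (hi : i ≤ 4) : Nat.card ↥(Z i) = 2 ^ i := series_card S.hT S.ha32 S.hb hi

theorem normal : W.Normal := by
  rw [S.hW]; infer_instance

theorem phi_normal : (phi W).Normal := by
  haveI := S.normal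
  infer_instance

theorem mul_mem_series {i : ℕ} (hi : i ≤ 3) {x y : T} (hx : x ∈ Z (i + 1)) (hy : y ∈ Z (i + 1)) :
    x * y ∈ Z i ↔ (x ∈ Z i ↔ y ∈ Z i) := by
  have hle := Subgroup.upperCentralSeries_mono T (Nat.le_succ i)
  have h2 : ((Z i).subgroupOf (Z (i + 1))).index = 2 := by
    have h := Subgroup.card_mul_index ((Z i).subgroupOf (Z (i + 1)))
    rw [Nat.card_congr (Subgroup.subgroupOfEquivOfLe hle).toEquiv, S.card_Z (i := i) (by omega),
      S.card_Z (i := i + 1) (by omega), pow_succ] at h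
    exact Nat.eq_of_mul_eq_mul_left (by positivity) h
  exact Subgroup.mul_mem_iff_of_index_two h2 (a := ⟨x, hx⟩) (b := ⟨y, hy⟩)

theorem le_of_mem {i : ℕ} (hi : i ≤ 3) {P : Subgroup T} (hP : Z i ≤ P) {x : T} (hx : x ∈ Z (i + 1))
    (hx' : x ∉ Z i) (hxP : x ∈ P) : Z (i + 1) ≤ P := fun y hy => by
  by_cases hy' : y ∈ Z i
  · exact hP hy'
  · have h := (S.mul_mem_series hi hx hy).2 (iff_of_false hx' hy')
    have := P.mul_mem (P.inv_mem hxP) (hP h)
    rwa [inv_mul_cancel_left] at this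

theorem exists_step {i : ℕ} (hi : i ≤ 3) : ∃ x ∈ Z (i + 1), x ∉ Z i := by
  by_contra h
  push Not at h
  have h1 := Subgroup.card_le_of_le (show Z (i + 1) ≤ Z i from h)
  rw [S.card_Z (by omega), S.card_Z (by omega)] at h1
  have := (Nat.pow_le_pow_iff_right (by norm_num)).1 h1
  omega

theorem mem_W_iff {t : T} : t ∈ W ↔ ∀ x ∈ Z 3, x * t = t * x := by
  rw [S.hW, mem_centralizer_iff]; rfl

/-- An element fixing generators of the series lies in `W`. -/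
theorem mem_W_of_fix {z₂ z₃ : T} (h₂ : z₂ ∈ Z 2 ∧ z₂ ∉ Z 1) (h₃ : z₃ ∈ Z 3 ∧ z₃ ∉ Z 2) {t : T}
    (e₂ : t * z₂ * t⁻¹ = z₂) (e₃ : t * z₃ * t⁻¹ = z₃) : t ∈ W := by
  rw [S.mem_W_iff]
  have h1 : Z 1 ≤ centralizer ({t} : Set T) := by
    rw [Subgroup.upperCentralSeries_one]
    exact center_le_centralizer _
  have m : ∀ {z : T}, t * z * t⁻¹ = z → z ∈ centralizer ({t} : Set T) := fun {z} e =>
    mem_centralizer_singleton_iff.2 (mul_inv_eq_iff_eq_mul.1 e).symm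
  have h3 := S.le_of_mem (i := 2) (by norm_num) (S.le_of_mem (i := 1) (by norm_num) h1 h₂.1 h₂.2 (m e₂))
    h₃.1 h₃.2 (m e₃)
  exact fun x hx => mem_centralizer_singleton_iff.1 (h3 hx)

theorem conj_div_mem {i : ℕ} {x : T} (hx : x ∈ Z (i + 1)) (t : T) : t * x * t⁻¹ * x⁻¹ ∈ Z i := by
  have h := inv_mem (Subgroup.mem_upperCentralSeries_succ_iff.1 hx t)
  rwa [commutatorElement_inv] at h

/-- The pair describing the action of an element of `T`. -/
theorem action_bound : W.index ≤ 8 ∧ (W.index = 8 → ∀ {z₂ z₃ : T}, z₂ ∈ Z 2 ∧ z₂ ∉ Z 1 → z₃ ∈ Z 3 ∧ z₃ ∉ Z 2 →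
    ∀ y₁ ∈ Z 1, ∀ y₂ ∈ Z 2, ∃ t : T, t * z₂ * t⁻¹ = y₁ * z₂ ∧ t * z₃ * t⁻¹ = y₂ * z₃) := by
  haveI := S.normal
  have key : ∀ {z₂ z₃ : T}, z₂ ∈ Z 2 ∧ z₂ ∉ Z 1 → z₃ ∈ Z 3 ∧ z₃ ∉ Z 2 →
      ∃ f : T ⧸ W → ↥(Z 1) × ↥(Z 2), Function.Injective f ∧ ∀ g, (g.out * z₂ * g.out⁻¹ = (f g).1 * z₂ ∧
        g.out * z₃ * g.out⁻¹ = (f g).2 * z₃) := by
    intro z₂ z₃ h₂ h₃
    refine ⟨fun g => (⟨_, conj_div_mem S h₂.1 g.out⟩, ⟨_, conj_div_mem S h₃.1 g.out⟩), fun g g' h => ?_,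
      fun g => ⟨by simp, by simp⟩⟩
    have e₂ := congrArg (fun p : ↥(Z 1) × ↥(Z 2) => (p.1 : T)) h
    have e₃ := congrArg (fun p : ↥(Z 1) × ↥(Z 2) => (p.2 : T)) h
    simp only [mul_left_inj] at e₂ e₃
    rw [← g.out_eq', ← g'.out_eq', eq_comm, QuotientGroup.eq]
    refine S.mem_W_of_fix h₂ h₃ ?_ ?_
    · calc g'.out⁻¹ * g.out * z₂ * (g'.out⁻¹ * g.out)⁻¹ = g'.out⁻¹ * (g.out * z₂ * g.out⁻¹) * g'.out := by group
        _ = g'.out⁻¹ * (g'.out * z₂ * g'.out⁻¹) * g'.out := by rw [mul_inv_eq_iff_eq_mul.2 (mul_inv_eq_iff_eq_mul.1 e₂)]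
        _ = z₂ := by group
    · calc g'.out⁻¹ * g.out * z₃ * (g'.out⁻¹ * g.out)⁻¹ = g'.out⁻¹ * (g.out * z₃ * g.out⁻¹) * g'.out := by group
        _ = g'.out⁻¹ * (g'.out * z₃ * g'.out⁻¹) * g'.out := by rw [mul_inv_eq_iff_eq_mul.2 (mul_inv_eq_iff_eq_mul.1 e₃)]
        _ = z₃ := by group
  have hcard : Nat.card (↥(Z 1) × ↥(Z 2)) = 8 := by
    rw [Nat.card_prod, S.card_Z (by norm_num), S.card_Z (by norm_num)]; rfl
  refine ⟨?_, fun h8 z₂ z₃ h₂ h₃ y₁ hy₁ y₂ hy₂ => ?_⟩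
  · obtain ⟨z₂, hz₂⟩ := S.exists_step (i := 1) (by norm_num)
    obtain ⟨z₃, hz₃⟩ := S.exists_step (i := 2) (by norm_num)
    obtain ⟨f, hf, -⟩ := key hz₂ hz₃
    rw [Subgroup.index_eq_card, ← hcard]
    exact Nat.card_le_card_of_injective f hf
  · obtain ⟨f, hf, he⟩ := key h₂ h₃
    obtain ⟨g, hg⟩ := ((Nat.bijective_iff_injective_and_card f).2
      ⟨hf, by rw [hcard, ← h8, Subgroup.index_eq_card]⟩).2 (⟨y₁, hy₁⟩, ⟨y₂, hy₂⟩)
    exact ⟨g.out, by rw [(he g).1, hg], by rw [(he g).2, hg]⟩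

/-- The index `k` with `Φ(W) = Z_k`. -/
theorem exists_phi_eq : ∃ k ≤ 3, phi W = Z k := by
  haveI := S.phi_normal
  obtain ⟨k, hk⟩ := IsPGroup.iff_card.1 (S.hT.to_subgroup (phi W))
  have h8 : Nat.card (phi W) ≤ 2 ^ 3 := (Subgroup.card_map_of_injective W.subtype_injective).le.trans S.hc
  rw [hk] at h8
  have hk3 := (Nat.pow_le_pow_iff_right (by norm_num)).1 h8
  exact ⟨k, hk3, eq_series S.hT S.ha32 S.hb (phi W) hk (by omega)⟩

theorem phi_le_Z3 : phi W ≤ Z 3 := by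
  obtain ⟨k, hk, e⟩ := S.exists_phi_eq
  exact e.le.trans (Subgroup.upperCentralSeries_mono T hk)

theorem phi_central {f w : T} (hf : f ∈ phi W) (hw : w ∈ W) : f * w = w * f :=
  S.mem_W_iff.1 hw f (S.phi_le_Z3 hf)

theorem sq_mem_phi {x : T} (hx : x ∈ W) : x ^ 2 ∈ phi W :=
  ⟨(⟨x, hx⟩ : W) ^ 2, Cfsg.Lib.PGroups.pow_mem_frattini (S.hT.to_subgroup W) _, rfl⟩

theorem comm_mem_phi {x y : T} (hx : x ∈ W) (hy : y ∈ W) : ⁅x, y⁆ ∈ phi W :=
  ⟨⁅(⟨x, hx⟩ : W), ⟨y, hy⟩⁆, Cfsg.Lib.PGroups.commutator_le_frattini (S.hT.to_subgroup W)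
    (Subgroup.commutator_mem_commutator (mem_top _) (mem_top _)), rfl⟩

theorem phi_le : phi W ≤ W := Subgroup.map_subtype_le _

theorem conj_mem_W {x : T} (hx : x ∈ W) (t : T) : t * x * t⁻¹ ∈ W := by
  haveI := S.normal
  exact Normal.conj_mem inferInstance x hx t

theorem not_W_le : ¬ W ≤ phi W := fun h => by
  have h1 := Subgroup.card_le_of_le h
  have h2 := (Subgroup.card_map_of_injective (K := frattini ↥W) W.subtype_injective).le.trans S.hc
  have h3 := W.card_mul_index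
  have h4 := S.action_bound.1
  have h5 := S.ha
  have h6 : Nat.card W * W.index ≤ 8 * 8 := Nat.mul_le_mul (h1.trans h2) h4
  omega

/-- The coordinate map of `W/Φ(W)`: an index-two subgroup avoiding the fixed line. -/
theorem exists_coord : ∃ (H : Subgroup T) (z : T), phi W ≤ H ∧ z ∈ W ∧ z ∉ H ∧
    (∀ x ∈ W, ∀ y ∈ W, (x * y ∈ H ↔ (x ∈ H ↔ y ∈ H))) ∧
    (∀ t : T, t * z * t⁻¹ * z⁻¹ ∈ phi W) ∧
    ∀ v ∈ W, (∀ t : T, t * v * t⁻¹ ∈ H) → v ∈ phi W := by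
  classical
  haveI := S.normal
  haveI := S.phi_normal
  obtain ⟨k, hk, e⟩ := S.exists_phi_eq
  obtain ⟨z, hzW, hz1, hz⟩ := exists_mem_succ S.hT W (i := k) (fun h => S.not_W_le (e ▸ h))
  let π := (QuotientGroup.mk' (phi W)).comp W.subtype
  have hexp : ∀ v : π.range, v ^ 2 = 1 := by
    rintro ⟨_, x, rfl⟩
    refine Subtype.ext ?_
    show (QuotientGroup.mk' (phi W)) (x : T) ^ 2 = 1
    rw [← map_pow, QuotientGroup.mk'_apply, QuotientGroup.eq_one_iff]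
    exact S.sq_mem_phi x.2
  obtain ⟨Q, hQ, hzQ⟩ := exists_avoid hexp (a := ⟨π ⟨z, hzW⟩, _, rfl⟩) (fun e' => hz (by
    have := congrArg Subtype.val e'
    exact e ▸ (QuotientGroup.eq_one_iff z).1 this))
  let P : Subgroup W := Q.comap π.rangeRestrict
  have hP : P.index ≤ 2 := by rw [Subgroup.index_comap_of_surjective _ π.rangeRestrict_surjective]; exact hQ
  have hzP : (⟨z, hzW⟩ : W) ∉ P := hzQ
  have hP2 : P.index = 2 := by
    have h0 : P.index ≠ 0 := Subgroup.index_ne_zero_of_finite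
    have h1 : P.index ≠ 1 := fun h => hzP (Subgroup.index_eq_one.1 h ▸ mem_top _)
    omega
  have hmem : ∀ {x : T} (hx : x ∈ W), x ∈ P.map W.subtype ↔ (⟨x, hx⟩ : W) ∈ P := fun {x} hx =>
    ⟨fun ⟨y, hy, e'⟩ => by rwa [show (⟨x, hx⟩ : W) = y from Subtype.ext e'.symm], fun h => ⟨_, h, rfl⟩⟩
  refine ⟨P.map W.subtype, z, ?_, hzW, fun h => hzP ((hmem hzW).1 h), fun x hx y hy => ?_, fun t => ?_, ?_⟩
  · rintro _ ⟨f, hf, rfl⟩
    refine (hmem f.2).2 ?_
    show π.rangeRestrict ⟨(f : T), f.2⟩ ∈ Q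
    have : π.rangeRestrict ⟨(f : T), f.2⟩ = 1 := Subtype.ext ((QuotientGroup.eq_one_iff _).2 ⟨f, hf, rfl⟩)
    rw [this]; exact one_mem Q
  · rw [hmem (mul_mem hx hy), hmem hx, hmem hy]
    exact Subgroup.mul_mem_iff_of_index_two hP2 (a := ⟨x, hx⟩) (b := ⟨y, hy⟩)
  · rw [e]; exact conj_div_mem S hz1 t
  · intro v hv hall
    by_contra hvF
    let N : Subgroup T := ((P.map W.subtype).normalCore)
    have hvN : v ∈ N := fun t => hall t
    obtain ⟨x, hxN, hx1, hx⟩ := exists_mem_succ S.hT N (i := k) (fun h => hvF (e ▸ h hvN))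
    have hxP : x ∈ P.map W.subtype := Subgroup.normalCore_le _ hxN
    have hxz : x * z ∈ phi W := e ▸ (S.mul_mem_series hk hx1 hz1).2 (iff_of_false hx hz)
    have hle : phi W ≤ P.map W.subtype := by
      rintro _ ⟨f, hf, rfl⟩
      refine (hmem f.2).2 ?_
      show π.rangeRestrict ⟨(f : T), f.2⟩ ∈ Q
      have : π.rangeRestrict ⟨(f : T), f.2⟩ = 1 := Subtype.ext ((QuotientGroup.eq_one_iff _).2 ⟨f, hf, rfl⟩)
      rw [this]; exact one_mem Q
    have h3 := (P.map W.subtype).mul_mem ((P.map W.subtype).inv_mem hxP) (hle hxz)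
    rw [inv_mul_cancel_left] at h3
    exact hzP ((hmem hzW).1 h3)

end Setup

end Cfsg.Lib.Classical.TwoGroups
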