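import Cfsg.Agent.Classical.TwoGroups.UpperFourMain

/-! Automorphisms of odd order, and isomorphic copies of the centraliser of the third centre. -/

set_option autoImplicit false
set_option linter.style.haveILetI false

namespace Cfsg.Lib.Classical.TwoGroups

open Subgroup
open scoped commutatorElement

variable {T : Type*} [Group T] [Finite T] {W : Subgroup T}

local notation "Z" => Subgroup.upperCentralSeries T

namespace Setup

variable (S : Setup W)
include S

theorem phi_le_frattini : phi W ≤ frattini T := by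
  rw [phi, ← S.commutator_eq_frattini, _root_.commutator_def, Subgroup.map_commutator]
  exact (Subgroup.commutator_mono le_top le_top).trans (Cfsg.Lib.PGroups.commutator_le_frattini S.hT)

theorem aut_fix_Z3 (φ : MulAut T) {m : ℕ} (hn : φ ^ (2 * m + 1) = 1) : ∀ i ≤ 3, ∀ x ∈ Z i, φ x = x := by
  intro i
  induction i with
  | zero =>
    intro _ x hx
    rw [Subgroup.upperCentralSeries_zero, mem_bot] at hx
    rw [hx, map_one]
  | succ i ih =>
    intro hi x hx
    have hchar : ∀ {j : ℕ} {y : T}, φ y ∈ Z j ↔ y ∈ Z j := fun {j y} => by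
      have h := (Subgroup.characteristic_iff_comap_eq.1 (inferInstance : (Z j).Characteristic)) φ
      exact SetLike.ext_iff.1 h y
    have hy : φ x * x⁻¹ ∈ Z i := (S.mul_mem_series (by omega) (hchar.2 hx) (inv_mem hx)).2 (by
      rw [hchar, inv_mem_iff])
    have hiter : ∀ k : ℕ, (φ ^ k) x = (φ x * x⁻¹) ^ k * x := by
      intro k
      induction k with
      | zero => simp
      | succ k ihk =>
        rw [pow_succ', MulAut.mul_apply, ihk, map_mul, map_pow, ih (by omega) _ hy, pow_succ, mul_assoc,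
          inv_mul_cancel_right]
    have h := hiter (2 * m + 1)
    rw [hn, MulAut.one_apply, eq_comm, mul_eq_right, pow_succ, pow_mul,
      S.sq_eq_one (Subgroup.upperCentralSeries_mono T (show i ≤ 3 by omega) hy), one_pow, one_mul, mul_inv_eq_one] at h
    exact h

theorem aut_mod_frattini (φ : MulAut T) {m : ℕ} (hn : φ ^ (2 * m + 1) = 1) :
    ∀ t : T, t⁻¹ * φ t ∈ frattini T := by
  have hfix := S.aut_fix_Z3 φ hn 3 le_rfl
  haveI := S.normal
  have hchar : ∀ {y : T}, φ y ∈ frattini T ↔ y ∈ frattini T := fun {y} =>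
    SetLike.ext_iff.1 ((Subgroup.characteristic_iff_comap_eq.1 (frattini_characteristic (G := T))) φ) y
  have hW : ∀ w ∈ W, φ w ∈ W := fun w hw => S.mem_W_iff.2 fun x hx => by
    rw [← hfix x hx, ← map_mul, ← map_mul, S.central hx hw]
  have hcos : ∀ t : T, t⁻¹ * φ t ∈ W := fun t => S.mem_W_iff.2 fun x hx => by
    have h : t * x * t⁻¹ ∈ Z 3 := Normal.conj_mem inferInstance _ hx t
    have e := hfix _ h
    rw [map_mul, map_mul, map_inv, hfix x hx] at e
    calc x * (t⁻¹ * φ t) = t⁻¹ * (t * x * t⁻¹) * φ t := by group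
      _ = t⁻¹ * (φ t * x * (φ t)⁻¹) * φ t := by rw [e]
      _ = t⁻¹ * φ t * x := by group
  let π := QuotientGroup.mk' (frattini T)
  have hpi : ∀ {v : T}, π v = 1 ↔ v ∈ frattini T := fun {v} => QuotientGroup.eq_one_iff v
  obtain ⟨H, z, C⟩ := S.exists_Coord
  obtain ⟨x, hx, hx1⟩ := S.sharp.2.2.2.2 H z C {((1 : T) : T ⧸ W)}
  have htwo : ∀ v ∈ W, π v = 1 ∨ π v = π x := by
    refine S.gen C hx hx1 _ (fun f hf => Or.inl (hpi.2 (S.phi_le_frattini hf))) ?_ fun t => Or.inr ?_
    · rintro u - v - (hu | hu) (hv | hv) <;> rw [map_mul, hu, hv] <;> (try simp only [one_mul, mul_one, true_or, or_true])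
      refine Or.inl ?_
      rw [← map_mul, hpi, ← pow_two]
      exact Cfsg.Lib.PGroups.pow_mem_frattini S.hT x
    · rw [QuotientGroup.mk'_apply, QuotientGroup.mk'_apply, QuotientGroup.eq_iff_div_mem, div_eq_mul_inv,
        ← commutatorElement_def]
      exact Cfsg.Lib.PGroups.commutator_le_frattini S.hT
        (Subgroup.commutator_mem_commutator (mem_top t) (mem_top x))
  have hWfix : ∀ w ∈ W, π (φ w) = π w := fun w hw => by
    by_cases h : w ∈ frattini T
    · rw [hpi.2 h, hpi.2 (hchar.2 h)]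
    · rw [(htwo w hw).resolve_left (fun e => h (hpi.1 e)),
        (htwo _ (hW w hw)).resolve_left (fun e => h (hchar.1 (hpi.1 e)))]
  intro t
  have hiter : ∀ k : ℕ, π ((φ ^ k) t) = π (t * (t⁻¹ * φ t) ^ k) := by
    intro k
    induction k with
    | zero => simp
    | succ k ihk =>
      have hf : (t * (t⁻¹ * φ t) ^ k)⁻¹ * (φ ^ k) t ∈ frattini T := by
        rw [← hpi, map_mul, map_inv, ihk, inv_mul_cancel]
      rw [pow_succ' φ, MulAut.mul_apply, ← mul_inv_cancel_left (t * (t⁻¹ * φ t) ^ k) ((φ ^ k) t),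
        map_mul φ, map_mul φ, map_mul π, map_mul π, hpi.2 (hchar.2 hf), mul_one,
        hWfix _ (pow_mem (hcos t) k), pow_succ' (t⁻¹ * φ t), ← mul_assoc t, mul_inv_cancel_left, map_mul]
  have h := hiter (2 * m + 1)
  rw [hn, MulAut.one_apply, map_mul, eq_comm, mul_eq_left, pow_succ, pow_mul, map_mul, map_pow,
    hpi.2 (Cfsg.Lib.PGroups.pow_mem_frattini S.hT _), one_pow, one_mul] at h
  exact hpi.1 h

/-- An isomorphic copy of `W` inside `T` equals `W`. -/
theorem range_eq (f : ↥W →* T) (hf : Function.Injective f) : f.range = W := by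
  classical
  haveI := S.normal
  let F : Subgroup T := (frattini ↥W).map f
  have hdX : ∀ U : Subgroup T, U.relIndex f.range ≤ 16 → F ≤ U := fun U hU => by
    refine Subgroup.map_le_iff_le_comap.2 (S.hd _ ?_)
    rwa [← Subgroup.relIndex_top_right, Subgroup.relIndex_comap, ← MonoidHom.range_eq_map]
  have hcard : Nat.card f.range = Nat.card W := (Nat.card_congr (MonoidHom.ofInjective hf).toEquiv).symm
  have h8 := S.sharp.2.1
  have hX8 : f.range.index = 8 := by
    have h1 := f.range.card_mul_index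
    have h2 := W.card_mul_index
    rw [hcard, ← h2, h8] at h1
    exact Nat.eq_of_mul_eq_mul_left Nat.card_pos h1
  have hWX : W.relIndex f.range ≤ 8 :=
    (Nat.le_of_dvd (by rw [h8]; norm_num) (Subgroup.relIndex_dvd_index_of_normal W f.range)).trans h8.le
  have hXW : f.range.relIndex W = W.relIndex f.range := by
    have h1 := Subgroup.relIndex_mul_index (inf_le_left : f.range ⊓ W ≤ f.range)
    have h2 := Subgroup.relIndex_mul_index (inf_le_right : f.range ⊓ W ≤ W)
    rw [← h1, hX8, h8, Subgroup.inf_relIndex_right, Subgroup.inf_relIndex_left] at h2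
    omega
  have hFW : F ≤ W := hdX W (by omega)
  have hFX : F ≤ f.range := Subgroup.map_le_range _ _
  have hphiX : phi W ≤ f.range := Subgroup.map_le_iff_le_comap.2
    (S.hd _ (by show f.range.relIndex W ≤ 16; omega))
  have hcen : ∀ y ∈ f.range, ∀ a ∈ F, a * y = y * a := by
    rintro _ ⟨w, rfl⟩ _ ⟨v, hv, rfl⟩
    rw [← map_mul, ← map_mul]
    exact congrArg f (Subtype.ext (S.phi_central ⟨v, hv, rfl⟩ w.2))
  have hle : phi W ≤ F := by
    intro a ha
    by_contra haF
    let Y : Subgroup T := f.range ⊓ W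
    have haY : a ∈ Y := ⟨hphiX ha, S.phi_le ha⟩
    haveI hN : (F.subgroupOf Y).Normal := ⟨fun v hv y => by
      rw [Subgroup.mem_subgroupOf] at hv ⊢
      rw [Subgroup.coe_mul, Subgroup.coe_mul, ← hcen y y.2.1 v hv, Subgroup.coe_inv, mul_inv_cancel_right]
      exact hv⟩
    obtain ⟨Q, hQ, haQ⟩ := exists_avoid (V := ↥Y ⧸ F.subgroupOf Y) (fun q => by
      obtain ⟨y, rfl⟩ := QuotientGroup.mk'_surjective _ q
      rw [← map_pow, QuotientGroup.mk'_apply, QuotientGroup.eq_one_iff, Subgroup.mem_subgroupOf, Subgroup.coe_pow]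
      obtain ⟨w, hw⟩ := y.2.1
      rw [← hw, ← map_pow]
      exact ⟨_, Cfsg.Lib.PGroups.pow_mem_frattini (S.hT.to_subgroup W) w, rfl⟩)
      (a := QuotientGroup.mk ⟨a, haY⟩) (fun e => haF ((QuotientGroup.eq_one_iff (⟨a, haY⟩ : ↥Y)).1 e))
    let U : Subgroup T := (Q.comap (QuotientGroup.mk' (F.subgroupOf Y))).map Y.subtype
    have hUY : U.relIndex Y ≤ 2 := by
      rw [Subgroup.relIndex, Subgroup.subgroupOf, Subgroup.comap_map_eq_self_of_injective Y.subtype_injective,
        Subgroup.index_comap_of_surjective _ (QuotientGroup.mk'_surjective _)]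
      exact hQ
    have hU : (U.subgroupOf W).index ≤ 16 := by
      show U.relIndex W ≤ 16
      rw [← Subgroup.relIndex_mul_relIndex U Y W (Subgroup.map_subtype_le _) inf_le_right]
      refine le_trans (Nat.mul_le_mul hUY (?_ : Y.relIndex W ≤ 8)) le_rfl
      rw [Subgroup.inf_relIndex_right, hXW]
      exact hWX
    obtain ⟨v, hv, e⟩ := ha
    obtain ⟨u, hu, e'⟩ : a ∈ U := e ▸ Subgroup.mem_subgroupOf.1 (S.hd _ hU hv)
    refine haQ ?_
    rwa [show (⟨a, haY⟩ : Y) = u from Subtype.ext e'.symm]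
  have heq : phi W = F := Subgroup.eq_of_le_of_card_ge hle (le_of_eq (by
    rw [Subgroup.card_map_of_injective hf, Subgroup.card_map_of_injective W.subtype_injective]))
  refine Subgroup.eq_of_le_of_card_ge (fun y hy => S.mem_W_iff.2 fun x hx => ?_) hcard.ge
  exact hcen y hy x (heq ▸ S.phi_eq.ge hx)

end Setup

end Cfsg.Lib.Classical.TwoGroups
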