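import Cfsg.Agent.Classical.TwoGroups.UpperFour

/-! The order bound and its equality case. -/

set_option autoImplicit false
set_option linter.style.haveILetI false

namespace Cfsg.Lib.Classical.TwoGroups

open Subgroup
open scoped commutatorElement

variable {T : Type*} [Group T] [Finite T] {W : Subgroup T}

local notation "Z" => Subgroup.upperCentralSeries T

/-- A coordinate subgroup with its line. -/
structure Coord (W H : Subgroup T) (z : T) : Prop where
  le : phi W ≤ H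
  zW : z ∈ W
  zH : z ∉ H
  mul : ∀ x ∈ W, ∀ y ∈ W, (x * y ∈ H ↔ (x ∈ H ↔ y ∈ H))
  zfix : ∀ t : T, t * z * t⁻¹ * z⁻¹ ∈ phi W
  core : ∀ v ∈ W, (∀ t : T, t * v * t⁻¹ ∈ H) → v ∈ phi W

namespace Setup

variable (S : Setup W)
include S

theorem exists_Coord : ∃ (H : Subgroup T) (z : T), Coord W H z := by
  obtain ⟨H, z, a, b, c, d, e, f⟩ := S.exists_coord
  exact ⟨H, z, a, b, c, d, e, f⟩

omit [Finite T] S in
theorem mem_H_mul {H : Subgroup T} {f x : T} (hf : f ∈ H) : f * x ∈ H ↔ x ∈ H := H.mul_mem_cancel_left hf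

variable {H : Subgroup T} {z : T} (C : Coord W H z)
include C

/-- The coordinates of an element of `W`. -/
noncomputable def theta (_S : Setup W) (_C : Coord W H z) (v : T) : Finset (T ⧸ W) :=
  letI := Fintype.ofFinite (T ⧸ W)
  letI := Classical.decPred fun g : T ⧸ W => g.out * v * g.out⁻¹ ∉ H
  Finset.univ.filter fun g => g.out * v * g.out⁻¹ ∉ H

theorem mem_theta_out {v : T} {g : T ⧸ W} : g ∈ S.theta C v ↔ g.out * v * g.out⁻¹ ∉ H := by
  simp [theta]

theorem mem_theta {v : T} (hv : v ∈ W) (t : T) : (t : T ⧸ W) ∈ S.theta C v ↔ t * v * t⁻¹ ∉ H := by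
  rw [S.mem_theta_out C]
  obtain ⟨w, hw⟩ := QuotientGroup.mk_out_eq_mul W t
  rw [hw, show t * (w : T) * v * (t * (w : T))⁻¹ = t * ⁅(w : T), v⁆ * t⁻¹ * (t * v * t⁻¹) by
    simp only [commutatorElement_def]; group]
  haveI := S.phi_normal
  rw [Setup.mem_H_mul (C.le (Normal.conj_mem inferInstance _ (S.comm_mem_phi w.2 hv) t))]

theorem theta_mul {v w : T} (hv : v ∈ W) (hw : w ∈ W) (g : T ⧸ W) :
    g ∈ S.theta C (v * w) ↔ ¬ (g ∈ S.theta C v ↔ g ∈ S.theta C w) := by
  rw [S.mem_theta_out C, S.mem_theta_out C, S.mem_theta_out C,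
    show g.out * (v * w) * g.out⁻¹ = (g.out * v * g.out⁻¹) * (g.out * w * g.out⁻¹) by group,
    C.mul _ (S.conj_mem_W hv _) _ (S.conj_mem_W hw _), not_iff_not]
  exact not_iff_not.symm

theorem theta_inj {v w : T} (hv : v ∈ W) (hw : w ∈ W) (h : S.theta C v = S.theta C w) : v⁻¹ * w ∈ phi W := by
  refine C.core _ (mul_mem (inv_mem hv) hw) fun t => ?_
  have h1 : (t * v * t⁻¹ ∈ H ↔ t * w * t⁻¹ ∈ H) := by
    rw [← not_iff_not, ← S.mem_theta C hv, ← S.mem_theta C hw, h]
  rw [show t * (v⁻¹ * w) * t⁻¹ = (t * v * t⁻¹)⁻¹ * (t * w * t⁻¹) by group,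
    C.mul _ (inv_mem (S.conj_mem_W hv _)) _ (S.conj_mem_W hw _), inv_mem_iff]
  exact h1

theorem theta_z : S.theta C z = @Finset.univ _ (Fintype.ofFinite (T ⧸ W)) := by
  ext g
  simp only [Finset.mem_univ, iff_true]
  rw [S.mem_theta_out C, show g.out * z * g.out⁻¹ = (g.out * z * g.out⁻¹ * z⁻¹) * z by group,
    Setup.mem_H_mul (C.le (C.zfix _))]
  exact C.zH

theorem card_le : Nat.card W ≤ Nat.card (phi W) * 2 ^ W.index ∧
    (Nat.card W = Nat.card (phi W) * 2 ^ W.index → ∀ s : Finset (T ⧸ W), ∃ v ∈ W, S.theta C v = s) := by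
  classical
  haveI := Fintype.ofFinite (T ⧸ W)
  let f : W ⧸ frattini ↥W → Finset (T ⧸ W) := fun q => S.theta C (q.out : T)
  have hf : Function.Injective f := fun q q' h => by
    rw [← q.out_eq', ← q'.out_eq', QuotientGroup.eq]
    obtain ⟨y, hy, e⟩ := S.theta_inj C q.out.2 q'.out.2 h
    rwa [show (q.out⁻¹ * q'.out : W) = y from Subtype.ext e.symm]
  have h1 := Subgroup.card_eq_card_quotient_mul_card_subgroup (frattini ↥W)
  have h2 : Nat.card (phi W) = Nat.card (frattini ↥W) := Subgroup.card_map_of_injective W.subtype_injective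
  have h3 : Nat.card (Finset (T ⧸ W)) = 2 ^ W.index := by
    rw [Nat.card_eq_fintype_card, Fintype.card_finset, Subgroup.index_eq_card, Nat.card_eq_fintype_card]
  have h4 := Nat.card_le_card_of_injective f hf
  rw [h3] at h4
  refine ⟨?_, fun e s => ?_⟩
  · rw [h1, h2, mul_comm]
    exact Nat.mul_le_mul_left _ h4
  · have h5 : Nat.card (W ⧸ frattini ↥W) = Nat.card (Finset (T ⧸ W)) := by
      rw [h3]
      rw [h1, h2, mul_comm] at e
      exact Nat.eq_of_mul_eq_mul_left Nat.card_pos e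
    obtain ⟨q, hq⟩ := ((Nat.bijective_iff_injective_and_card f).2 ⟨hf, h5⟩).2 s
    exact ⟨_, q.out.2, hq⟩

omit C

/-- The equality case. -/
theorem sharp : Nat.card T = 2 ^ 14 ∧ W.index = 8 ∧ phi W = Z 3 ∧ Nat.card W = 2 ^ 11 ∧
    ∀ (H : Subgroup T) (z : T) (C : Coord W H z) (s : Finset (T ⧸ W)), ∃ v ∈ W, S.theta C v = s := by
  obtain ⟨H, z, C⟩ := S.exists_Coord
  obtain ⟨k, hk, e⟩ := S.exists_phi_eq
  have hkc : Nat.card (phi W) = 2 ^ k := by rw [e, S.card_Z (by omega)]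
  have hWT := W.card_mul_index
  have ha := S.ha
  have hi := S.action_bound.1
  have hle := (S.card_le C).1
  rw [hkc] at hle
  have h8 : W.index = 8 := by
    by_contra hne
    have h7 : W.index ≤ 7 := by omega
    have h1 : Nat.card W * W.index ≤ 2 ^ 3 * 2 ^ 7 * 7 := Nat.mul_le_mul (hle.trans (Nat.mul_le_mul
      (Nat.pow_le_pow_right (by norm_num) hk) (Nat.pow_le_pow_right (by norm_num) h7))) h7
    omega
  rw [h8] at hle hWT
  have hk3 : k = 3 := by
    by_contra hne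
    have h1 : Nat.card W ≤ 2 ^ 2 * 2 ^ 8 := hle.trans (Nat.mul_le_mul_right _
      (Nat.pow_le_pow_right (by norm_num) (by omega)))
    omega
  subst hk3
  have hW : Nat.card W = 2 ^ 11 := le_antisymm (hle.trans (le_of_eq (by norm_num))) (by omega)
  refine ⟨by omega, h8, e, hW, fun H z C s => (S.card_le C).2 ?_ s⟩
  rw [hW, hkc, h8]; norm_num

theorem phi_eq : phi W = Z 3 := S.sharp.2.2.1

theorem Z3_le_W : Z 3 ≤ W := S.phi_eq ▸ S.phi_le

theorem central {f w : T} (hf : f ∈ Z 3) (hw : w ∈ W) : f * w = w * f := S.mem_W_iff.1 hw f hf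

/-- The derived subgroup of `W` is its Frattini subgroup. -/
theorem commutator_eq_frattini : commutator ↥W = frattini ↥W := by
  have hW : IsPGroup 2 W := S.hT.to_subgroup W
  refine le_antisymm (Cfsg.Lib.PGroups.commutator_le_frattini hW) ?_
  by_contra hne
  rcases eq_top_or_exists_le_coatom ((commutator ↥W).subgroupOf (frattini ↥W)) with h | ⟨M₀, hM₀, hle⟩
  · exact hne (Subgroup.subgroupOf_eq_top.1 h)
  obtain ⟨-, hidx⟩ := Cfsg.Lib.PGroups.coatom_normal_index (hW.to_subgroup _) hM₀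
  let M : Subgroup W := M₀.map (frattini ↥W).subtype
  have hcM : commutator ↥W ≤ M := fun x hx =>
    ⟨⟨x, Cfsg.Lib.PGroups.commutator_le_frattini hW hx⟩, hle hx, rfl⟩
  haveI : M.Normal := Subgroup.Normal.of_commutator_le (G := ↥W) hcM
  have hmem : ∀ {x : W} (hx : x ∈ frattini ↥W), x ∈ M ↔ (⟨x, hx⟩ : frattini ↥W) ∈ M₀ := fun {x} hx =>
    ⟨fun ⟨y, hy, e⟩ => by rwa [show (⟨x, hx⟩ : frattini ↥W) = y from Subtype.ext e.symm], fun h => ⟨_, h, rfl⟩⟩
  refine no_isotropic S.hd (fun x => Cfsg.Lib.PGroups.pow_mem_frattini hW x) M ?_ ?_ ⊤ le_top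
    (by rw [Subgroup.index_top]; norm_num) (fun x _ y _ => hcM (Subgroup.commutator_mem_commutator (mem_top x) (mem_top y)))
    fun x hx => ?_
  · intro h
    refine hM₀.1 (eq_top_iff.2 fun y _ => ?_)
    obtain ⟨y', hy', e⟩ := h y.2
    rwa [show y = y' from Subtype.ext e.symm]
  · intro a ha b hb ha' hb'
    rw [hmem ha] at ha'
    rw [hmem hb] at hb'
    rw [hmem (mul_mem ha hb)]
    exact (Subgroup.mul_mem_iff_of_index_two hidx (a := ⟨a, ha⟩) (b := ⟨b, hb⟩)).2 (iff_of_false ha' hb')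
  · rw [hmem (pow_mem hx 2)]
    have := M₀.sq_mem_of_index_two hidx (⟨x, hx⟩ : frattini ↥W)
    exact this

/-- The third centre is elementary abelian. -/
theorem sq_eq_one {f : T} (hf : f ∈ Z 3) : f ^ 2 = 1 := by
  rw [← S.phi_eq] at hf
  obtain ⟨f, hf', rfl⟩ := hf
  rw [← S.commutator_eq_frattini, commutator_eq_closure] at hf'
  have hcen : ∀ {a : W}, a ∈ closure (commutatorSet ↥W) → (a : T) ∈ Z 3 := fun {a} ha => by
    rw [← S.phi_eq]
    exact ⟨a, by rw [← S.commutator_eq_frattini, commutator_eq_closure]; exact ha, rfl⟩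
  refine Subgroup.closure_induction (p := fun (a : W) _ => (a : T) ^ 2 = 1) ?_ ?_ ?_ ?_ hf'
  · rintro _ ⟨x, y, rfl⟩
    set w : T := ⁅(x : T), (y : T)⁆ with hw
    have hwZ : w ∈ Z 3 := by rw [← S.phi_eq]; exact S.comm_mem_phi x.2 y.2
    have h2 : ⁅(x : T) ^ 2, (y : T)⁆ = 1 := commutatorElement_eq_one_iff_mul_comm.2
      (S.central (S.phi_eq ▸ S.sq_mem_phi x.2) y.2)
    have e : ⁅(x : T) ^ 2, (y : T)⁆ = (x : T) * w * (x : T)⁻¹ * w := by
      rw [hw, pow_two]; simp only [commutatorElement_def]; group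
    rw [e, ← S.central hwZ x.2, mul_inv_cancel_right, ← pow_two] at h2
    exact h2
  · simp
  · intro a b ha hb h1 h2
    have hc : Commute (a : T) (b : T) := S.central (hcen ha) b.2
    rw [Subgroup.coe_mul, hc.mul_pow, h1, h2, one_mul]
  · intro a _ h
    rw [Subgroup.coe_inv, inv_pow, h, inv_one]

end Setup

end Cfsg.Lib.Classical.TwoGroups
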