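import Cfsg.Agent.Classical.TwoGroups.UpperFourBound
import Cfsg.Agent.Classical.TwoGroups.DihedralEight

/-! The quotient by the centraliser of the third centre is dihedral, and that centraliser has centre of order eight. -/

set_option autoImplicit false
set_option linter.style.haveILetI false

namespace Cfsg.Lib.Classical.TwoGroups

open Subgroup
open scoped commutatorElement

variable {T : Type*} [Group T] [Finite T] {W : Subgroup T}

local notation "Z" => Subgroup.upperCentralSeries T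

/-- Generators of the first three steps of the series. -/
structure Flag (z₁ z₂ z₃ : T) : Prop where
  h₁ : z₁ ∈ Subgroup.upperCentralSeries T 1
  n₁ : z₁ ≠ 1
  h₂ : z₂ ∈ Subgroup.upperCentralSeries T 2 ∧ z₂ ∉ Subgroup.upperCentralSeries T 1
  h₃ : z₃ ∈ Subgroup.upperCentralSeries T 3 ∧ z₃ ∉ Subgroup.upperCentralSeries T 2

/-- The prescribed action on the flag. -/
def Moves (z₂ z₃ t y₁ y₂ : T) : Prop := t * z₂ * t⁻¹ = y₁ * z₂ ∧ t * z₃ * t⁻¹ = y₂ * z₃

/-- Two elements commute modulo the second centre. -/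
def Orth (x y : T) : Prop := ⁅x, y⁆ ∈ Subgroup.upperCentralSeries T 2

namespace Setup

variable (S : Setup W)
include S

theorem exists_Flag : ∃ z₁ z₂ z₃ : T, Flag z₁ z₂ z₃ := by
  obtain ⟨z₁, h₁, n₁⟩ := S.exists_step (i := 0) (by norm_num)
  obtain ⟨z₂, h₂⟩ := S.exists_step (i := 1) (by norm_num)
  obtain ⟨z₃, h₃⟩ := S.exists_step (i := 2) (by norm_num)
  exact ⟨z₁, z₂, z₃, h₁, fun e => n₁ (e ▸ one_mem _), h₂, h₃⟩

variable {z₁ z₂ z₃ : T} (B : Flag z₁ z₂ z₃)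
include B

omit S [Finite T] in
theorem fix₁ (t : T) {y : T} (hy : y ∈ Z 1) : t * y * t⁻¹ = y := by
  rw [Subgroup.upperCentralSeries_one] at hy
  rw [mem_center_iff.1 hy t, mul_inv_cancel_right]

theorem z1_sq : z₁ * z₁ = 1 := by
  rw [← pow_two]
  exact S.sq_eq_one (Subgroup.upperCentralSeries_mono T (by norm_num : 1 ≤ 3) B.h₁)

theorem eq_one_or {y : T} (hy : y ∈ Z 1) : y = 1 ∨ y = z₁ := by
  by_cases h : y = 1
  · exact Or.inl h
  have h' := (S.mul_mem_series (i := 0) (by norm_num) hy B.h₁).2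
    (iff_of_false (by simpa [Subgroup.upperCentralSeries_zero] using h)
      (by simpa [Subgroup.upperCentralSeries_zero] using B.n₁))
  rw [Subgroup.upperCentralSeries_zero, mem_bot] at h'
  refine Or.inr ?_
  rw [eq_inv_of_mul_eq_one_left h']
  exact inv_eq_of_mul_eq_one_right (S.z1_sq B)

theorem two_cases {y : T} (hy : y ∈ Z 2) : y = 1 ∨ y = z₁ ∨ y = z₂ ∨ y = z₁ * z₂ := by
  by_cases h : y ∈ Z 1
  · exact (S.eq_one_or B h).imp id Or.inl
  have h' := (S.mul_mem_series (i := 1) (by norm_num) hy (inv_mem B.h₂.1)).2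
    (iff_of_false h (fun e => B.h₂.2 (by simpa using inv_mem e)))
  rcases S.eq_one_or B h' with e | e
  · exact Or.inr (Or.inr (Or.inl (mul_inv_eq_one.1 e)))
  · exact Or.inr (Or.inr (Or.inr (mul_inv_eq_iff_eq_mul.1 e)))

theorem moves_unique {t t' y₁ y₂ : T} (h : Moves z₂ z₃ t y₁ y₂) (h' : Moves z₂ z₃ t' y₁ y₂) : t⁻¹ * t' ∈ W := by
  refine S.mem_W_of_fix B.h₂ B.h₃ ?_ ?_
  · calc t⁻¹ * t' * z₂ * (t⁻¹ * t')⁻¹ = t⁻¹ * (t' * z₂ * t'⁻¹) * t := by group
      _ = t⁻¹ * (t * z₂ * t⁻¹) * t := by rw [h'.1, h.1]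
      _ = z₂ := by group
  · calc t⁻¹ * t' * z₃ * (t⁻¹ * t')⁻¹ = t⁻¹ * (t' * z₃ * t'⁻¹) * t := by group
      _ = t⁻¹ * (t * z₃ * t⁻¹) * t := by rw [h'.2, h.2]
      _ = z₃ := by group

omit S [Finite T] in
theorem moves_mul {t t' y₁ y₂ u₁ u₂ : T} (h : Moves z₂ z₃ t y₁ y₂) (hu : u₁ ∈ Z 1)
    (h' : Moves z₂ z₃ t' u₁ u₂) : Moves z₂ z₃ (t * t') (u₁ * y₁) (t * u₂ * t⁻¹ * y₂) := by
  constructor
  · calc t * t' * z₂ * (t * t')⁻¹ = t * (t' * z₂ * t'⁻¹) * t⁻¹ := by group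
      _ = (t * u₁ * t⁻¹) * (t * z₂ * t⁻¹) := by rw [h'.1]; group
      _ = u₁ * y₁ * z₂ := by rw [fix₁ B t hu, h.1, mul_assoc]
  · calc t * t' * z₃ * (t * t')⁻¹ = t * (t' * z₃ * t'⁻¹) * t⁻¹ := by group
      _ = (t * u₂ * t⁻¹) * (t * z₃ * t⁻¹) := by rw [h'.2]; group
      _ = t * u₂ * t⁻¹ * y₂ * z₃ := by rw [h.2, ← mul_assoc]

theorem mem_W_moves {t : T} (h : Moves z₂ z₃ t 1 1) : t ∈ W :=
  S.mem_W_of_fix B.h₂ B.h₃ (by simpa using h.1) (by simpa using h.2)

theorem exists_moves {y₁ y₂ : T} (hy₁ : y₁ ∈ Z 1) (hy₂ : y₂ ∈ Z 2) : ∃ t, Moves z₂ z₃ t y₁ y₂ :=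
  S.action_bound.2 S.sharp.2.1 B.h₂ B.h₃ y₁ hy₁ y₂ hy₂

theorem moves_self (t : T) : ∃ y₁ ∈ Z 1, ∃ y₂ ∈ Z 2, Moves z₂ z₃ t y₁ y₂ :=
  ⟨_, S.conj_div_mem B.h₂.1 t, _, S.conj_div_mem B.h₃.1 t, by group, by group⟩

theorem dihedral_quotient [W.Normal] : Nonempty (T ⧸ W ≃* DihedralGroup 4) := by
  have h12 := Subgroup.upperCentralSeries_mono T (show 1 ≤ 2 by norm_num)
  obtain ⟨a, ha⟩ := S.exists_moves B B.h₁ (one_mem _)
  obtain ⟨b, hb⟩ := S.exists_moves B (one_mem _) B.h₂.1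
  have haa := moves_mul B ha B.h₁ ha
  have hbb := moves_mul B hb (one_mem _) hb
  have hab := moves_mul B ha (one_mem _) hb
  have hba := moves_mul B hb B.h₁ ha
  simp only [mul_one, one_mul, mul_inv_cancel, S.z1_sq B] at haa hbb hab hba
  rw [ha.1] at hab
  have hz₂ : z₂ * z₂ = 1 := by
    rw [← pow_two]; exact S.sq_eq_one (Subgroup.upperCentralSeries_mono T (by norm_num : 2 ≤ 3) B.h₂.1)
  rw [hb.1, one_mul, hz₂] at hbb
  refine dihedral_eight (by rw [← Subgroup.index_eq_card, S.sharp.2.1]) (a : T ⧸ W) b ?_ ?_ ?_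
  · rw [← QuotientGroup.mk_mul, QuotientGroup.eq_one_iff]
    exact S.mem_W_moves B haa
  · rw [← QuotientGroup.mk_mul, QuotientGroup.eq_one_iff]
    exact S.mem_W_moves B hbb
  · rw [← QuotientGroup.mk_mul, ← QuotientGroup.mk_mul, ne_eq, QuotientGroup.eq]
    intro h
    have hW := S.mem_W_iff.1 h z₃ B.h₃.1
    have e : a * b * z₃ * (a * b)⁻¹ = b * a * z₃ * (b * a)⁻¹ := by
      calc a * b * z₃ * (a * b)⁻¹
          = a * b * (z₃ * ((a * b)⁻¹ * (b * a))) * (b * a)⁻¹ := by group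
        _ = a * b * ((a * b)⁻¹ * (b * a) * z₃) * (b * a)⁻¹ := by rw [hW]
        _ = b * a * z₃ * (b * a)⁻¹ := by group
    rw [hab.2, hba.2, mul_left_inj] at e
    exact B.n₁ (mul_eq_right.1 e)

omit B

theorem orth_mul {x y y' : T} (hx : x ∈ W) (hy : y ∈ W) (hy' : y' ∈ W) :
    Orth x (y * y') ↔ (Orth x y ↔ Orth x y') := by
  have h1 : ⁅x, y⁆ ∈ Z 3 := S.phi_eq ▸ S.comm_mem_phi hx hy
  have h2 : ⁅x, y'⁆ ∈ Z 3 := S.phi_eq ▸ S.comm_mem_phi hx hy'
  have e : ⁅x, y * y'⁆ = ⁅x, y⁆ * (y * ⁅x, y'⁆ * y⁻¹) := by simp only [commutatorElement_def]; group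
  rw [Orth, Orth, Orth, e, ← S.central h2 hy, mul_inv_cancel_right]
  exact S.mul_mem_series (i := 2) (by norm_num) h1 h2

omit S [Finite T] in
theorem orth_comm {x y : T} : Orth y x ↔ Orth x y := by
  rw [Orth, Orth, ← inv_mem_iff, commutatorElement_inv]

omit S [Finite T] in
theorem orth_conj (t : T) {x y : T} : Orth (t * x * t⁻¹) (t * y * t⁻¹) ↔ Orth x y := by
  rw [Orth, Orth, show ⁅t * x * t⁻¹, t * y * t⁻¹⁆ = t * ⁅x, y⁆ * t⁻¹ by simp only [commutatorElement_def]; group]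
  refine ⟨fun h => ?_, fun h => Normal.conj_mem inferInstance _ h t⟩
  simpa [mul_assoc] using Normal.conj_mem (inferInstance : (Z 2).Normal) _ h t⁻¹

theorem orth_phi {x f : T} (hx : x ∈ W) (hf : f ∈ phi W) : Orth x f := by
  rw [Orth, commutatorElement_eq_one_iff_mul_comm.2 (S.phi_central hf hx).symm]
  exact one_mem _

theorem orth_congr {x y y' : T} (hx : x ∈ W) (hy : y ∈ W) (h : y⁻¹ * y' ∈ phi W) : Orth x y ↔ Orth x y' := by
  conv_rhs => rw [← mul_inv_cancel_left y y']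
  rw [S.orth_mul hx hy (S.phi_le h), iff_true_right (S.orth_phi hx h)]

variable {x : T}

theorem orth_conj_mulW (hx : x ∈ W) {v : T} (hv : v ∈ W) (g : T) {w : T} (hw : w ∈ W) :
    Orth x (g * w * v * (g * w)⁻¹) ↔ Orth x (g * v * g⁻¹) := by
  refine (S.orth_congr hx (S.conj_mem_W hv g) ?_).symm
  haveI := S.phi_normal
  rw [show (g * v * g⁻¹)⁻¹ * (g * w * v * (g * w)⁻¹) = g * ⁅v⁻¹, w⁆ * g⁻¹ by
    simp only [commutatorElement_def]; group]
  exact Normal.conj_mem inferInstance _ (S.comm_mem_phi (inv_mem hv) hw) g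

omit S [Finite T] in
theorem orth_inv (g : T) : Orth x (g⁻¹ * x * g⁻¹⁻¹) ↔ Orth x (g * x * g⁻¹) := by
  rw [← orth_conj g, show g * (g⁻¹ * x * g⁻¹⁻¹) * g⁻¹ = x by group, orth_comm]

variable {H : Subgroup T} {z : T} (C : Coord W H z)
include C

theorem theta_conj (hx : x ∈ W) (hx1 : S.theta C x = {((1 : T) : T ⧸ W)}) (g : T) :
    S.theta C (g * x * g⁻¹) = {((g⁻¹ : T) : T ⧸ W)} := by
  haveI := S.normal
  ext q
  induction q using QuotientGroup.induction_on with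
  | H t =>
    rw [S.mem_theta C (S.conj_mem_W hx g), show t * (g * x * g⁻¹) * t⁻¹ = t * g * x * (t * g)⁻¹ by group,
      ← S.mem_theta C hx, hx1, Finset.mem_singleton, Finset.mem_singleton, QuotientGroup.eq, QuotientGroup.eq,
      mul_one, inv_mem_iff, ← _root_.mul_inv_rev, inv_mem_iff]
    exact Normal.mem_comm_iff inferInstance

theorem insert_step (hx : x ∈ W) (hx1 : S.theta C x = {((1 : T) : T ⧸ W)}) [DecidableEq (T ⧸ W)] {v : T} (hv : v ∈ W)
    {g : T ⧸ W} (hg : g ∉ S.theta C v) :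
    S.theta C (v * (g.out⁻¹ * x * g.out⁻¹⁻¹)) = insert g (S.theta C v) := by
  ext q
  rw [S.theta_mul C hv (S.conj_mem_W hx _), S.theta_conj C hx hx1, inv_inv, QuotientGroup.out_eq',
    Finset.mem_singleton, Finset.mem_insert]
  by_cases hq : q = g
  · subst hq; simp [hg]
  · simp [hq]

theorem gen (hx : x ∈ W) (hx1 : S.theta C x = {((1 : T) : T ⧸ W)}) (Q : T → Prop) (hphi : ∀ f ∈ phi W, Q f)
    (hmul : ∀ u ∈ W, ∀ v ∈ W, Q u → Q v → Q (u * v)) (hQ : ∀ t : T, Q (t * x * t⁻¹)) : ∀ v ∈ W, Q v := by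
  classical
  have key : ∀ s : Finset (T ⧸ W), ∃ v ∈ W, S.theta C v = s ∧ Q v := by
    intro s
    induction s using Finset.induction_on with
    | empty =>
      refine ⟨1, one_mem W, ?_, hphi 1 (one_mem _)⟩
      ext q
      simp [S.mem_theta_out C]
    | @insert g s hg ih =>
      obtain ⟨v, hv, e, hQv⟩ := ih
      exact ⟨_, mul_mem hv (S.conj_mem_W hx _), by rw [S.insert_step C hx hx1 hv (by rwa [e]), e],
        hmul v hv _ (S.conj_mem_W hx _) hQv (hQ _)⟩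
  intro v hv
  obtain ⟨v', hv', e, hQ'⟩ := key (S.theta C v)
  have h := S.theta_inj C hv' hv e
  rw [← mul_inv_cancel_left v' v]
  exact hmul v' hv' _ (S.phi_le h) hQ' (hphi _ h)

theorem parity (hx : x ∈ W) (hx1 : S.theta C x = {((1 : T) : T ⧸ W)}) (hxz : Orth x z) (f : T ⧸ W → ZMod 2)
    (hf : ∀ g, f g = 0 ↔ Orth x (g.out * x * g.out⁻¹)) : letI := Fintype.ofFinite (T ⧸ W); ∑ g, f g = 0 := by
  classical
  letI := Fintype.ofFinite (T ⧸ W)
  have key : ∀ s : Finset (T ⧸ W), ∃ v ∈ W, S.theta C v = s ∧ (Orth x v ↔ ∑ g ∈ s, f g = 0) := by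
    intro s
    induction s using Finset.induction_on with
    | empty =>
      refine ⟨1, one_mem W, ?_, iff_of_true (S.orth_phi hx (one_mem _)) Finset.sum_empty⟩
      ext q
      simp [S.mem_theta_out C]
    | @insert g s hg ih =>
      obtain ⟨v, hv, e, hiff⟩ := ih
      refine ⟨_, mul_mem hv (S.conj_mem_W hx _), by rw [S.insert_step C hx hx1 hv (by rwa [e]), e], ?_⟩
      rw [S.orth_mul hx hv (S.conj_mem_W hx _), hiff, orth_inv, ← hf, Finset.sum_insert hg]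
      generalize ∑ a ∈ s, f a = A
      generalize f g = B
      revert A B
      decide
  obtain ⟨v, hv, e, hiff⟩ := key Finset.univ
  exact hiff.1 ((S.orth_congr hx hv (S.theta_inj C hv C.zW (e.trans (S.theta_z C).symm))).2 hxz)

include B

omit C in
theorem orth_fix (hx : x ∈ W) {g : T} (hg : g * z₂ * g⁻¹ = z₂) : Orth x (g * x * g⁻¹) := by
  by_cases hgW : g ∈ W
  · have h := S.orth_conj_mulW hx hx 1 hgW
    simp only [one_mul, inv_one, mul_one] at h
    rw [h, Orth, commutatorElement_self]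
    exact one_mem _
  obtain ⟨y₁, hy₁, y₂, hy₂, hm⟩ := S.moves_self B g
  have e₁ : y₁ = 1 := by
    have := hm.1; rw [hg] at this
    exact mul_eq_right.1 this.symm
  subst e₁
  have hfix2 : ∀ y ∈ Z 2, g * y * g⁻¹ = y := by
    intro y hy
    rcases S.two_cases B hy with e | e | e | e <;> subst e
    · simp
    · exact fix₁ B g B.h₁
    · exact hg
    · rw [show g * (z₁ * z₂) * g⁻¹ = (g * z₁ * g⁻¹) * (g * z₂ * g⁻¹) by group, fix₁ B g B.h₁, hg]
  have hgg : g * g ∈ W := by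
    refine S.mem_W_moves B ?_
    have h := moves_mul B hm (one_mem _) hm
    rw [one_mul, hfix2 y₂ hy₂, ← pow_two y₂,
      S.sq_eq_one (Subgroup.upperCentralSeries_mono T (by norm_num : 2 ≤ 3) hy₂)] at h
    exact h
  by_contra hne
  have hwZ : ⁅x, g * x * g⁻¹⁆ ∈ Z 3 := S.phi_eq ▸ S.comm_mem_phi hx (S.conj_mem_W hx g)
  have hgw : g * ⁅x, g * x * g⁻¹⁆ * g⁻¹ = ⁅x, g * x * g⁻¹⁆ := by
    have h1 : ⁅g * g * x * (g * g)⁻¹ * x⁻¹, g * x * g⁻¹⁆ = 1 := by
      refine commutatorElement_eq_one_iff_mul_comm.2 (S.phi_central ?_ (S.conj_mem_W hx g))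
      rw [← commutatorElement_def]; exact S.comm_mem_phi hgg hx
    have h2 : g * g * x * (g * g)⁻¹ * x⁻¹ ∈ W := mul_mem (S.conj_mem_W hx _) (inv_mem hx)
    have h3 : ⁅g * g * x * (g * g)⁻¹, g * x * g⁻¹⁆ = ⁅x, g * x * g⁻¹⁆ := by
      have e : ⁅g * g * x * (g * g)⁻¹, g * x * g⁻¹⁆ = (g * g * x * (g * g)⁻¹ * x⁻¹) * ⁅x, g * x * g⁻¹⁆ *
          (g * g * x * (g * g)⁻¹ * x⁻¹)⁻¹ * ⁅g * g * x * (g * g)⁻¹ * x⁻¹, g * x * g⁻¹⁆ := by
        simp only [commutatorElement_def]; group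
      rw [e, h1, mul_one, ← S.central hwZ h2, mul_inv_cancel_right]
    calc g * ⁅x, g * x * g⁻¹⁆ * g⁻¹ = ⁅g * x * g⁻¹, g * g * x * (g * g)⁻¹⁆ := by
          simp only [commutatorElement_def]; group
      _ = ⁅g * g * x * (g * g)⁻¹, g * x * g⁻¹⁆⁻¹ := (commutatorElement_inv _ _).symm
      _ = ⁅x, g * x * g⁻¹⁆⁻¹ := by rw [h3]
      _ = ⁅x, g * x * g⁻¹⁆ := inv_eq_of_mul_eq_one_right (by rw [← pow_two]; exact S.sq_eq_one hwZ)
  refine hgW (S.mem_W_of_fix B.h₂ B.h₃ hg ?_)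
  have hf := (S.mul_mem_series (i := 2) (by norm_num) hwZ B.h₃.1).2 (iff_of_false hne B.h₃.2)
  have := hfix2 _ hf
  rw [show g * (⁅x, g * x * g⁻¹⁆ * z₃) * g⁻¹ = (g * ⁅x, g * x * g⁻¹⁆ * g⁻¹) * (g * z₃ * g⁻¹) by group, hgw,
    mul_left_cancel_iff] at this
  exact this

theorem orth_mul_central (hx : x ∈ W) (hx1 : S.theta C x = {((1 : T) : T ⧸ W)}) (hxz : Orth x z) {c : T}
    (hc : Moves z₂ z₃ c 1 z₁) (g : T) : Orth x (g * c * x * (g * c)⁻¹) ↔ Orth x (g * x * g⁻¹) := by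
  classical
  haveI := S.normal
  have h2Z := Subgroup.upperCentralSeries_mono T (show 1 ≤ 2 by norm_num)
  have h23 := Subgroup.upperCentralSeries_mono T (show 2 ≤ 3 by norm_num)
  have hF : ∀ {g g' : T}, g⁻¹ * g' ∈ W → (Orth x (g' * x * g'⁻¹) ↔ Orth x (g * x * g⁻¹)) := fun {g g'} h => by
    have := S.orth_conj_mulW hx hx g h
    rwa [mul_inv_cancel_left] at this
  have hcc : c * c ∈ W := by
    refine S.mem_W_moves B ?_
    have h := moves_mul B hc (one_mem _) hc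
    rwa [one_mul, fix₁ B c B.h₁, S.z1_sq B] at h
  obtain ⟨a, ha⟩ := S.exists_moves B B.h₁ (one_mem _)
  have hac : Moves z₂ z₃ (a * c) z₁ z₁ := by
    have h := moves_mul B ha (one_mem _) hc
    rwa [one_mul, fix₁ B a B.h₁, mul_one] at h
  have easy : ∀ g : T, g⁻¹ * a ∉ W → g⁻¹ * (a * c) ∉ W →
      (Orth x (g * c * x * (g * c)⁻¹) ↔ Orth x (g * x * g⁻¹)) := by
    intro g hna hnac
    obtain ⟨y₁, hy₁, y₂, hy₂, hm⟩ := S.moves_self B g
    have hgc := moves_mul B hm (one_mem _) hc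
    rw [one_mul, fix₁ B g B.h₁] at hgc
    rcases S.eq_one_or B hy₁ with rfl | rfl
    · exact iff_of_true (S.orth_fix B hx (by simpa using hgc.1)) (S.orth_fix B hx (by simpa using hm.1))
    have hy2n : y₂ ∉ Z 1 := fun h => by
      rcases S.eq_one_or B h with e | e <;> subst e
      · exact hna (S.moves_unique B hm ha)
      · exact hnac (S.moves_unique B hm hac)
    have hW : g * c * g ∈ W := by
      refine S.mem_W_moves B ?_
      have h := moves_mul B hgc B.h₁ hm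
      have e2 : g * c * y₂ * (g * c)⁻¹ = y₁ * y₂ := by
        rcases S.two_cases B hy₂ with e | e | e | e <;> subst e
        · exact absurd (one_mem _) hy2n
        · exact absurd B.h₁ hy2n
        · exact hgc.1
        · rw [show g * c * (y₁ * z₂) * (g * c)⁻¹ = (g * c * y₁ * (g * c)⁻¹) * (g * c * z₂ * (g * c)⁻¹) by group,
            fix₁ B _ B.h₁, hgc.1]
      rw [S.z1_sq B, e2] at h
      have hcm : y₁ * y₂ = y₂ * y₁ := (Subgroup.mem_center_iff.1
        (by rw [← Subgroup.upperCentralSeries_one]; exact B.h₁) y₂).symm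
      have e3 : y₁ * y₂ * (y₁ * y₂) = 1 := by
        rw [← pow_two]; exact S.sq_eq_one (h23 (mul_mem (h2Z B.h₁) hy₂))
      rwa [e3] at h
    rw [← orth_inv g]
    refine hF (g := g⁻¹) ?_
    rw [inv_inv]
    exact (Normal.mem_comm_iff inferInstance).1 hW
  letI := Fintype.ofFinite (T ⧸ W)
  let f : T ⧸ W → ZMod 2 := fun q => if Orth x (q.out * x * q.out⁻¹) then 0 else 1
  have hf0 : ∀ q, f q = 0 ↔ Orth x (q.out * x * q.out⁻¹) := fun q => by
    simp only [f]; split_ifs <;> simp_all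
  have hfmk : ∀ t : T, f (t : T ⧸ W) = 0 ↔ Orth x (t * x * t⁻¹) := fun t => by
    rw [hf0]
    obtain ⟨w, hw⟩ := QuotientGroup.mk_out_eq_mul W t
    rw [hw]
    exact S.orth_conj_mulW hx hx t w.2
  have hcW : c ∉ W := fun h => by
    have := S.mem_W_iff.1 h z₃ B.h₃.1
    have h' := hc.2
    rw [← this, mul_inv_cancel_right] at h'
    exact B.n₁ (mul_eq_right.1 h'.symm)
  have hne : (a : T ⧸ W) ≠ ((a * c : T) : T ⧸ W) := by
    rw [ne_eq, QuotientGroup.eq, inv_mul_cancel_left]; exact hcW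
  have hsum := S.parity C hx hx1 hxz f hf0
  rw [← Finset.sum_sdiff (Finset.subset_univ ({(a : T ⧸ W), ((a * c : T) : T ⧸ W)} : Finset (T ⧸ W))),
    Finset.sum_pair hne] at hsum
  have hrest : ∑ q ∈ Finset.univ \ ({(a : T ⧸ W), ((a * c : T) : T ⧸ W)} : Finset (T ⧸ W)), f q = 0 := by
    refine Finset.sum_involution (fun q _ => q * (c : T ⧸ W)) ?_ ?_ ?_ ?_
    · intro q hq
      induction q using QuotientGroup.induction_on with
      | H t =>
        simp only [Finset.mem_sdiff, Finset.mem_univ, true_and, Finset.mem_insert, Finset.mem_singleton, not_or,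
          QuotientGroup.eq] at hq
        have h := easy t hq.1 hq.2
        rw [← hfmk, ← hfmk, QuotientGroup.mk_mul] at h
        revert h
        generalize f ((t : T ⧸ W) * (c : T ⧸ W)) = u
        generalize f (t : T ⧸ W) = v
        revert u v
        decide
    · intro q _ _ e
      exact hcW ((QuotientGroup.eq_one_iff c).1 (mul_eq_left.1 e))
    · intro q hq
      induction q using QuotientGroup.induction_on with
      | H t =>
        simp only [Finset.mem_sdiff, Finset.mem_univ, true_and, Finset.mem_insert, Finset.mem_singleton, not_or,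
          QuotientGroup.mk_mul] at hq ⊢
        have hcc' : (c : T ⧸ W) * (c : T ⧸ W) = 1 := by
          rw [← QuotientGroup.mk_mul, QuotientGroup.eq_one_iff]; exact hcc
        refine ⟨fun e => hq.2 ?_, fun e => hq.1 (mul_right_cancel e)⟩
        rw [← e, mul_assoc, hcc', mul_one]
    · intro q _
      rw [mul_assoc, ← QuotientGroup.mk_mul, (QuotientGroup.eq_one_iff (c * c)).2 hcc, mul_one]
  rw [hrest, zero_add] at hsum
  have haeq : Orth x (a * c * x * (a * c)⁻¹) ↔ Orth x (a * x * a⁻¹) := by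
    rw [← hfmk, ← hfmk]
    revert hsum
    generalize f ((a * c : T) : T ⧸ W) = u
    generalize f (a : T ⧸ W) = v
    revert u v
    decide
  by_cases hga : g⁻¹ * a ∈ W
  · have h1 : (g * c)⁻¹ * (a * c) ∈ W := by
      rw [show (g * c)⁻¹ * (a * c) = c⁻¹ * (g⁻¹ * a) * c⁻¹⁻¹ by group]
      exact S.conj_mem_W hga _
    exact (hF h1).symm.trans (haeq.trans (hF hga))
  by_cases hgac : g⁻¹ * (a * c) ∈ W
  · have h1 : (g * c)⁻¹ * a ∈ W := by
      rw [show (g * c)⁻¹ * a = c⁻¹ * (g⁻¹ * (a * c)) * c⁻¹⁻¹ * (c * c)⁻¹ by group]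
      exact mul_mem (S.conj_mem_W hgac _) (inv_mem hcc)
    exact (hF h1).symm.trans (haeq.symm.trans (hF hgac))
  exact easy g hga hgac

/-- A large subgroup is orthogonal to everything when the coordinate line is central. -/
theorem big_radical (hzc : ∀ w ∈ W, z * w = w * z) :
    ∃ R : Subgroup ↥W, R.index ≤ 16 ∧ ∀ v ∈ R, ∀ w ∈ W, Orth (v : T) w := by
  haveI := S.normal
  haveI := S.phi_normal
  obtain ⟨x, hx, hx1⟩ := S.sharp.2.2.2.2 H z C {((1 : T) : T ⧸ W)}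
  have hxz : Orth x z := by
    rw [Orth, commutatorElement_eq_one_iff_mul_comm.2 (hzc x hx).symm]; exact one_mem _
  obtain ⟨c, hc⟩ := S.exists_moves B (one_mem _) (Subgroup.upperCentralSeries_mono T (by norm_num : 1 ≤ 2) B.h₁)
  have hcconj : ∀ s : T, s⁻¹ * c * s * c ∈ W := by
    intro s
    obtain ⟨y₁, hy₁, y₂, hy₂, hm⟩ := S.moves_self B s
    have h1 := moves_mul B hc hy₁ hm
    have h2 := moves_mul B hm (one_mem _) hc
    rw [mul_one] at h1
    rw [one_mul, fix₁ B s B.h₁] at h2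
    have e : c * y₂ * c⁻¹ = y₂ := by
      rcases S.two_cases B hy₂ with e | e | e | e <;> subst e
      · simp
      · exact fix₁ B c B.h₁
      · simpa using hc.1
      · rw [show c * (z₁ * z₂) * c⁻¹ = (c * z₁ * c⁻¹) * (c * z₂ * c⁻¹) by group, fix₁ B c B.h₁, hc.1, one_mul]
    rw [e, mem_center_iff.1 (by rw [← Subgroup.upperCentralSeries_one]; exact B.h₁) y₂] at h1
    have h3 : c * c ∈ W := by
      refine S.mem_W_moves B ?_
      have h := moves_mul B hc (one_mem _) hc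
      rwa [one_mul, fix₁ B c B.h₁, S.z1_sq B] at h
    have h4 := mul_mem (S.moves_unique B h2 h1) h3
    have h5 := S.conj_mem_W h4 c
    rw [show c * ((s * c)⁻¹ * (c * s) * (c * c)) * c⁻¹ = s⁻¹ * c * s * c by group] at h5
    exact h5
  have hinv : ∀ v ∈ W, ∀ w ∈ W, (Orth v w ↔ Orth (c * v * c⁻¹) w) := by
    refine S.gen C hx hx1 _ (fun f hf w hw => ?_) (fun u hu v hv h h' w hw => ?_) (fun t => ?_)
    · rw [← orth_comm (x := f), ← orth_comm (x := c * f * c⁻¹)]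
      exact iff_of_true (S.orth_phi hw hf) (S.orth_phi hw (Normal.conj_mem inferInstance _ hf c))
    · rw [show c * (u * v) * c⁻¹ = (c * u * c⁻¹) * (c * v * c⁻¹) by group,
        orth_comm (x := w) (y := u * v), orth_comm (x := w) (y := c * u * c⁻¹ * (c * v * c⁻¹)),
        S.orth_mul hw hu hv, S.orth_mul hw (S.conj_mem_W hu c) (S.conj_mem_W hv c),
        ← orth_comm (x := w) (y := u), ← orth_comm (x := w) (y := v), h w hw, h' w hw,
        orth_comm (x := w) (y := c * u * c⁻¹), orth_comm (x := w) (y := c * v * c⁻¹)]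
    · refine S.gen C hx hx1 _ (fun f hf => iff_of_true (S.orth_phi (S.conj_mem_W hx t) hf)
        (S.orth_phi (S.conj_mem_W (S.conj_mem_W hx t) c) hf)) (fun u hu v hv h h' => ?_) (fun s => ?_)
      · rw [S.orth_mul (S.conj_mem_W hx t) hu hv, S.orth_mul (S.conj_mem_W (S.conj_mem_W hx t) c) hu hv, h, h']
      · rw [← orth_conj t⁻¹, ← orth_conj (t⁻¹ * c⁻¹) (x := c * (t * x * t⁻¹) * c⁻¹),
          show t⁻¹ * (t * x * t⁻¹) * t⁻¹⁻¹ = x by group,
          show t⁻¹ * (s * x * s⁻¹) * t⁻¹⁻¹ = t⁻¹ * s * x * (t⁻¹ * s)⁻¹ by group,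
          show t⁻¹ * c⁻¹ * (c * (t * x * t⁻¹) * c⁻¹) * (t⁻¹ * c⁻¹)⁻¹ = x by group,
          show t⁻¹ * c⁻¹ * (s * x * s⁻¹) * (t⁻¹ * c⁻¹)⁻¹ = t⁻¹ * c⁻¹ * s * x * (t⁻¹ * c⁻¹ * s)⁻¹ by group,
          ← S.orth_mul_central B C hx hx1 hxz hc (t⁻¹ * s)]
        have h := S.orth_conj_mulW hx hx (t⁻¹ * c⁻¹ * s) (hcconj s)
        rwa [show t⁻¹ * c⁻¹ * s * (s⁻¹ * c * s * c) = t⁻¹ * s * c by group] at h
  let K : T → Subgroup ↥W := fun r =>
    { carrier := {v | Orth (r * x * r⁻¹) (v : T)}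
      one_mem' := S.orth_phi (S.conj_mem_W hx r) (one_mem _)
      mul_mem' := fun {u v} hu hv => ((S.orth_mul (S.conj_mem_W hx r) u.2 v.2).2 (iff_of_true hu hv) :)
      inv_mem' := fun {v} hv => by
        have h := S.orth_mul (S.conj_mem_W hx r) (inv_mem v.2) v.2
        rw [inv_mul_cancel] at h
        exact ((h.1 (S.orth_phi (S.conj_mem_W hx r) (one_mem _))).2 hv :) }
  have hK : ∀ r, (K r).index ≤ 2 := by
    intro r
    by_cases h : ∀ v : ↥W, v ∈ K r
    · rw [show K r = ⊤ from eq_top_iff.2 fun v _ => h v, Subgroup.index_top]; omega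
    push Not at h
    obtain ⟨u, hu⟩ := h
    refine le_of_eq (Subgroup.index_eq_two_iff.2 ⟨u, fun v => ?_⟩)
    have e : v * u ∈ K r ↔ (v ∈ K r ↔ u ∈ K r) := S.orth_mul (S.conj_mem_W hx r) v.2 u.2
    by_cases hv : v ∈ K r
    · exact Or.inr ⟨hv, fun h => hu ((e.1 h).1 hv)⟩
    · exact Or.inl ⟨e.2 (iff_of_false hv hu), hv⟩
  obtain ⟨a, ha⟩ := S.exists_moves B B.h₁ (one_mem _)
  obtain ⟨b, hb⟩ := S.exists_moves B (one_mem _) B.h₂.1
  have hab : Moves z₂ z₃ (a * b) z₁ (z₁ * z₂) := by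
    have h := moves_mul B ha (one_mem _) hb
    rwa [one_mul, ha.1, mul_one] at h
  have h1 : Moves z₂ z₃ 1 1 1 := ⟨by simp, by simp⟩
  refine ⟨K 1 ⊓ K a ⊓ K b ⊓ K (a * b), ?_, fun v hv w hw => ?_⟩
  · refine Subgroup.index_inf_le.trans ?_
    refine le_trans (Nat.mul_le_mul (Subgroup.index_inf_le.trans
      (Nat.mul_le_mul (Subgroup.index_inf_le.trans (Nat.mul_le_mul (hK 1) (hK a))) (hK b))) (hK _)) ?_
    norm_num
  simp only [Subgroup.mem_inf] at hv
  obtain ⟨⟨⟨hv1, hva⟩, hvb⟩, hvab⟩ := hv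
  have hr : ∀ r : T, v ∈ K r → ∀ t : T, (r⁻¹ * t ∈ W ∨ (c * r)⁻¹ * t ∈ W) → Orth (v : T) (t * x * t⁻¹) := by
    intro r hv' t ht
    have h0 : Orth (v : T) (r * x * r⁻¹) := orth_comm.2 hv'
    rcases ht with ht | ht
    · have h := S.orth_conj_mulW v.2 hx r ht
      rw [mul_inv_cancel_left] at h
      exact h.2 h0
    · have h := S.orth_conj_mulW v.2 hx (c * r) ht
      rw [mul_inv_cancel_left] at h
      rw [h, hinv v v.2 _ (S.conj_mem_W hx (c * r)),
        show c * r * x * (c * r)⁻¹ = c * (r * x * r⁻¹) * c⁻¹ by group, orth_conj]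
      exact h0
  refine S.gen C hx hx1 (fun w => Orth (v : T) w) (fun f hf => S.orth_phi v.2 hf)
    (fun u hu u' hu' h h' => (S.orth_mul v.2 hu hu').2 (iff_of_true h h')) (fun t => ?_) w hw
  obtain ⟨y₁, hy₁, y₂, hy₂, hm⟩ := S.moves_self B t
  have hcr : ∀ {r u₁ u₂ : T}, u₁ ∈ Z 1 → Moves z₂ z₃ r u₁ u₂ → c * u₂ * c⁻¹ = u₂ →
      Moves z₂ z₃ (c * r) u₁ (u₂ * z₁) := fun {r u₁ u₂} hu hr e => by
    have h := moves_mul B hc hu hr
    rwa [mul_one, e] at h
  have hcz₂ : c * z₂ * c⁻¹ = z₂ := by simpa using hc.1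
  have hcz : c * (z₁ * z₂) * c⁻¹ = z₁ * z₂ := by
    rw [show c * (z₁ * z₂) * c⁻¹ = (c * z₁ * c⁻¹) * (c * z₂ * c⁻¹) by group, fix₁ B c B.h₁, hcz₂]
  have hcm : ∀ y, y * z₁ = z₁ * y := fun y =>
    mem_center_iff.1 (by rw [← Subgroup.upperCentralSeries_one]; exact B.h₁) y
  rcases S.eq_one_or B hy₁ with e₁ | e₁ <;> rcases S.two_cases B hy₂ with e₂ | e₂ | e₂ | e₂ <;>
    rw [e₁, e₂] at hm
  · exact hr 1 hv1 t (Or.inl (S.moves_unique B h1 hm))
  · exact hr 1 hv1 t (Or.inr (S.moves_unique B (by simpa using hcr (one_mem _) h1 (by simp)) hm))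
  · exact hr b hvb t (Or.inl (S.moves_unique B hb hm))
  · refine hr b hvb t (Or.inr (S.moves_unique B ?_ hm))
    rw [← hcm]; exact hcr (one_mem _) hb hcz₂
  · exact hr a hva t (Or.inl (S.moves_unique B ha hm))
  · exact hr a hva t (Or.inr (S.moves_unique B (by simpa using hcr B.h₁ ha (by simp)) hm))
  · refine hr (a * b) hvab t (Or.inr (S.moves_unique B ?_ hm))
    have h := hcr B.h₁ hab hcz
    have e : z₁ * z₂ * z₁ = z₂ := by rw [hcm, ← mul_assoc, S.z1_sq B, one_mul]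
    rwa [e] at h
  · exact hr (a * b) hvab t (Or.inl (S.moves_unique B hab hm))

omit B C

theorem center_eq : (Subgroup.center ↥W).map W.subtype = Z 3 := by
  classical
  haveI := S.normal
  refine le_antisymm ?_ fun f hf => ⟨⟨f, S.Z3_le_W hf⟩, mem_center_iff.2 fun w => Subtype.ext
    (S.central hf w.2).symm, rfl⟩
  by_contra hne
  obtain ⟨z', hz'C, hz4, hz3⟩ := exists_mem_succ S.hT ((Subgroup.center ↥W).map W.subtype) (i := 3) hne
  obtain ⟨u, hu, rfl⟩ := hz'C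
  obtain ⟨H, z, C⟩ := S.exists_Coord
  obtain ⟨z₁, z₂, z₃, B⟩ := S.exists_Flag
  change (u : T) ∈ Z (3 + 1) at hz4
  change (u : T) ∉ Z 3 at hz3
  have hzc : ∀ w ∈ W, z * w = w * z := by
    have huH : (u : T) ∉ H := fun h => by
      refine hz3 (S.phi_eq ▸ C.core _ u.2 fun t => ?_)
      have := H.mul_mem (C.le (S.phi_eq.ge (S.conj_div_mem hz4 t))) h
      rwa [inv_mul_cancel_right] at this
    have he : S.theta C (u : T) = S.theta C z := by
      rw [S.theta_z C]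
      ext g
      simp only [Finset.mem_univ, iff_true]
      rw [S.mem_theta_out C,
        show g.out * (u : T) * g.out⁻¹ = (g.out * (u : T) * g.out⁻¹ * (u : T)⁻¹) * u by group,
        Setup.mem_H_mul (C.le (S.phi_eq.ge (S.conj_div_mem hz4 _)))]
      exact huH
    have h := S.theta_inj C u.2 C.zW he
    intro w hw
    have h1 : (u : T) * w = w * u := (congrArg Subtype.val (mem_center_iff.1 hu ⟨w, hw⟩)).symm
    have h2 := S.phi_central h hw
    have hc' : Commute ((u : T) * ((u : T)⁻¹ * z)) w := (Commute.mul_left h1 h2)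
    rwa [mul_inv_cancel_left] at hc'
  obtain ⟨R, hR, hRo⟩ := S.big_radical B C hzc
  have hM : ((Z 2).subgroupOf W).Normal := inferInstance
  let π := QuotientGroup.mk' ((Z 2).subgroupOf W)
  have hcom : ∀ q ∈ commutator (↥W ⧸ (Z 2).subgroupOf W), ∃ v ∈ frattini ↥W, π v = q := by
    intro q hq
    rw [_root_.commutator_def, ← Subgroup.map_top_of_surjective π (QuotientGroup.mk'_surjective _),
      ← Subgroup.map_commutator, ← _root_.commutator_def, S.commutator_eq_frattini] at hq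
    exact hq
  have hmem3 : ∀ {v : ↥W}, v ∈ frattini ↥W → (v : T) ∈ Z 3 := fun {v} hv => S.phi_eq ▸ ⟨v, hv, rfl⟩
  have hpi : ∀ v : ↥W, π v = 1 ↔ (v : T) ∈ Z 2 := fun v => (QuotientGroup.eq_one_iff v).trans Iff.rfl
  have hcen : ∀ v : ↥W, (∀ w : ↥W, Orth (v : T) (w : T)) → π v ∈ center (↥W ⧸ (Z 2).subgroupOf W) := by
    intro v hv
    rw [mem_center_iff]
    intro q
    obtain ⟨w, rfl⟩ := QuotientGroup.mk'_surjective _ q
    refine (commutatorElement_eq_one_iff_mul_comm.1 ?_).symm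
    rw [← map_commutatorElement, hpi]
    exact hv w
  obtain ⟨A, hAZ, hA, hAc⟩ := exists_abelian (H := ↥W ⧸ (Z 2).subgroupOf W) (fun p q hp hq hp1 hq1 => by
    obtain ⟨v, hv, rfl⟩ := hcom p hp
    obtain ⟨w, hw, rfl⟩ := hcom q hq
    refine (mul_inv_eq_one.1 ?_)
    rw [← map_inv, ← map_mul, hpi]
    exact (S.mul_mem_series (i := 2) (by norm_num) (hmem3 hv) (inv_mem (hmem3 hw))).2
      (iff_of_false (fun h => hp1 ((hpi v).2 h)) (fun h => hq1 ((hpi w).2 (inv_mem_iff.1 h)))))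
    (fun q hq => by
      obtain ⟨v, hv, rfl⟩ := hcom q hq
      refine hcen v fun w => ?_
      rw [Orth, commutatorElement_eq_one_iff_mul_comm.2 (S.central (hmem3 hv) w.2)]
      exact one_mem _)
    (by
      refine le_trans (Nat.le_of_dvd (Nat.pos_of_ne_zero Subgroup.index_ne_zero_of_finite) ?_) hR
      refine (Subgroup.index_dvd_of_le (show R.map π ≤ _ from ?_)).trans
        (Subgroup.index_map_dvd R (QuotientGroup.mk'_surjective _))
      rintro _ ⟨v, hv, rfl⟩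
      exact hcen v fun w => hRo v hv w w.2)
  have hUle : frattini ↥W ≤ A.comap π := fun v hv => hAZ (hcen v fun w => by
    rw [Orth, commutatorElement_eq_one_iff_mul_comm.2 (S.central (hmem3 hv) w.2)]
    exact one_mem _)
  refine no_isotropic S.hd (fun v => Cfsg.Lib.PGroups.pow_mem_frattini (S.hT.to_subgroup W) v)
    ((Z 2).subgroupOf W) (fun h => ?_) (fun p hp q hq hp' hq' => ?_) (A.comap π) hUle
    (by rw [Subgroup.index_comap_of_surjective _ (QuotientGroup.mk'_surjective _)]; exact hA)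
    (fun v hv w hw => ?_) (fun v hv => ?_)
  · obtain ⟨x, hx3, hx2⟩ := S.exists_step (i := 2) (by norm_num)
    rw [← S.phi_eq] at hx3
    obtain ⟨y, hy, rfl⟩ := hx3
    exact hx2 (h hy)
  · exact (S.mul_mem_series (i := 2) (by norm_num) (hmem3 hp) (hmem3 hq)).2 (iff_of_false hp' hq')
  · rw [← QuotientGroup.eq_one_iff, ← QuotientGroup.mk'_apply, map_commutatorElement,
      commutatorElement_eq_one_iff_mul_comm]
    exact hAc _ hv _ hw
  · rw [Subgroup.mem_subgroupOf, Subgroup.coe_pow, S.sq_eq_one (hmem3 hv)]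
    exact one_mem _

end Setup

end Cfsg.Lib.Classical.TwoGroups
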